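import Mathlib
import Cfsg.Agent.Lib.Wl5.Defs
import Cfsg.Agent.Lib.Mit.Main

/-! Quasisimple subgroups of `SL₃(q)` without transvections.  See `plans/WL5.md`. -/

set_option autoImplicit false

namespace CfsgLib.Wl5

open Matrix Subgroup Cfsg Cfsg.Geo CfsgLib.Asch
open scoped commutatorElement
open CfsgLib.Mit

theorem d3_lift {G Q : Type*} [Group G] [Group Q] (f : G →* Q) {S : Subgroup G}
    (hf : ∀ x ∈ S, f x = 1 → x = 1) {n : ℕ} {r s : Q} (h : DihSyl.IsDih (S.map f) n r s) :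
    ∃ r s, DihSyl.IsDih S n r s := by
  obtain ⟨r, hr, rfl⟩ := h.r_mem
  obtain ⟨s, hs, rfl⟩ := h.s_mem
  have inj : ∀ x ∈ S, ∀ y ∈ S, f x = f y → x = y := fun x hx y hy e =>
    mul_inv_eq_one.1 (hf _ (S.mul_mem hx (S.inv_mem hy)) (by simp [e]))
  refine ⟨r, s, ?_, hf _ (S.mul_mem hs hs) (by rw [map_mul, h.ss]),
    inj _ (S.mul_mem (S.mul_mem hs hr) (S.inv_mem hs)) _ (S.inv_mem hr) (by simpa using h.conj),
    fun ⟨i, hi⟩ => h.notMem ⟨i, by simpa using congrArg f hi⟩, fun g => ⟨fun hg => ?_, ?_⟩⟩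
  · rw [← h.ord, orderOf_eq_orderOf_iff]
    exact fun k => ⟨fun hk => by rw [← map_pow, hk, map_one],
      fun hk => hf _ (S.pow_mem hr k) (by rw [map_pow, hk])⟩
  · obtain ⟨i, e | e⟩ := (h.mem _).1 (mem_map_of_mem f hg)
    · exact ⟨i, Or.inl (inj _ hg _ (S.zpow_mem hr i) (by simpa using e))⟩
    · exact ⟨i, Or.inr (inj _ hg _ (S.mul_mem (S.zpow_mem hr i) hs) (by simpa using e))⟩
  · rintro ⟨i, rfl | rfl⟩
    exacts [S.zpow_mem hr i, S.mul_mem (S.zpow_mem hr i) hs]

variable {F : Type*} [Field F]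

theorem d3_eig (h2 : (2 : F) ≠ 0) {a x : M3 F} (ha : a * a = 1) (hd : a.det = 1) (h1 : a ≠ 1)
    (hx : x * a = a * x) : 1 + a ≠ 0 ∧ ∃ l : F, x * (1 + a) = l • (1 + a) := by
  obtain ⟨c, v, φ, c2, e1, e2, rfl⟩ := exists_of_sq_eq_one ha (by
    rintro c rfl
    have e := congrFun (congrFun ha 0) 0
    simp at e hd
    exact h1 (by rw [show c = 1 by linear_combination hd - c * e, one_smul]))
  rw [det_smul, det_one_add_vecMulVec, e1, Fintype.card_fin] at hd
  obtain rfl : c = -1 := by linear_combination c * c2 * (-1) - hd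
  have e3 : 1 + (-1 : F) • (1 + vecMulVec v φ) = -vecMulVec v φ := by module
  have e4 : x * vecMulVec v φ = vecMulVec v φ * x := by
    simpa [mul_add, add_mul] using hx
  have e5 := congrArg (· *ᵥ v) e4
  simp only [← mulVec_mulVec, vecMulVec_mulVec', e1, mulVec_smul] at e5
  rw [e3]
  refine ⟨neg_ne_zero.2 e2, -(φ ⬝ᵥ x *ᵥ v) / 2, ?_⟩
  have e6 : x *ᵥ v = (-(φ ⬝ᵥ x *ᵥ v) / 2) • v := smul_right_injective _ (neg_ne_zero.2 h2) (by
    simp only [e5, smul_smul]; congr 1; field_simp)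
  rw [mul_neg, smul_neg, mul_vecMulVec, ← smul_vecMulVec, ← e6]

/-- the centraliser of a four-group of `SL₃` is abelian -/
theorem d3_comm (h2 : (2 : F) ≠ 0) {a b x y : M3 F} (ha : a * a = 1) (hb : b * b = 1) (da : a.det = 1)
    (db : b.det = 1) (a1 : a ≠ 1) (b1 : b ≠ 1) (hab : a ≠ b) (hc : a * b = b * a)
    (xa : Commute x a) (xb : Commute x b) (ya : Commute y a) (yb : Commute y b) : x * y = y * x := by
  have sg : ∀ {a b : M3 F} {l : F}, b * b = 1 → 1 + a ≠ 0 → b * (1 + a) = l • (1 + a) →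
      l = 1 ∨ l = -1 := fun {a b l} hb h0 e => by
    have : (l * l - 1) • (1 + a) = 0 := by
      rw [sub_smul, ← smul_smul, ← e, ← mul_smul_comm, ← e, ← mul_assoc, hb]; simp
    exact mul_self_eq_one_iff.1 (sub_eq_zero.1 ((smul_eq_zero.1 this).resolve_right h0))
  have h0 : 1 + a + b + a * b = 0 := by
    obtain ⟨n1, l, e1⟩ := d3_eig h2 ha da a1 hc.symm
    obtain ⟨n2, m, e2⟩ := d3_eig h2 hb db b1 hc
    rw [mul_add, mul_one] at e1 e2
    rcases sg hb n1 (by rw [mul_add, mul_one, e1]) with rfl | rfl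
    · rcases sg ha n2 (by rw [mul_add, mul_one, e2]) with rfl | rfl
      · exact absurd (smul_right_injective _ h2
          (show (2 : F) • a = (2 : F) • b by linear_combination (norm := module) e2 - e1 - hc)) hab
      · linear_combination (norm := module) e2
    · linear_combination (norm := module) e1 + hc
  obtain ⟨-, l1, e1⟩ := d3_eig h2 ha da a1 xa
  obtain ⟨-, l2, e2⟩ := d3_eig h2 hb db b1 xb
  obtain ⟨-, l3, e3⟩ := d3_eig h2 (a := a * b)
    (by rw [mul_assoc, ← mul_assoc b, ← hc, mul_assoc, hb, mul_one, ha]) (by simp [da, db])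
    (fun e => hab (by rw [← mul_one a, ← hb, ← mul_assoc, e, one_mul])) (xa.mul_right xb)
  have e : (2 : F) • x = l1 • (1 + a) + l2 • (1 + b) + l3 • (1 + a * b) := by
    rw [← e1, ← e2, ← e3, ← mul_add, ← mul_add, show 1 + a + (1 + b) + (1 + a * b) = (2 : F) • 1 by
      linear_combination (norm := module) h0]
    simp
  have : Commute y ((2 : F) • x) := e ▸ ((((Commute.one_right y).add_right ya).smul_right l1).add_right
    (((Commute.one_right y).add_right yb).smul_right l2)).add_right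
    (((Commute.one_right y).add_right (ya.mul_right yb)).smul_right l3)
  exact smul_right_injective _ h2 (by simpa using this.symm.eq)

variable [Fintype F] {P E : Subgroup (GL (Fin 3) F)}

theorem dih3 (h2 : (2 : F) ≠ 0) (hP : QS P) (ht : NoT P) : GW.DihSylow P := by
  obtain ⟨p, hc, -, hp, -⟩ := FiniteField.card' F
  have := Fact.mk hp
  have : Fact (Nat.Prime 2) := ⟨Nat.prime_two⟩
  have hp2 : p ≠ 2 := by
    rintro rfl
    exact h2 (by exact_mod_cast CharP.cast_eq_zero F 2)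
  let f : F →+* AlgebraicClosure F := algebraMap F _
  have : CharP (AlgebraicClosure F) p := charP_of_injective_algebraMap f.injective p
  have hπ := bc_injective (barπ_injective P) f
  have htv := noTv_of_not_hasTv hP (fun ⟨x, hx, h1, v, φ, e1, e2⟩ => h1 (ht x hx v φ e1 e2)) f
  obtain ⟨S, n, r, s, hn, h⟩ :=
    dihSylow p hp2 hP.simple hP.nonab hπ htv (noHom p hp2 hP.simple hP.nonab hπ htv)
  obtain ⟨S, rfl⟩ := Sylow.mapSurjective_surjective (QuotientGroup.mk'_surjective _) 2 S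
  obtain ⟨r, s, h⟩ := d3_lift _ (fun x hx e => by
    obtain ⟨k, hk⟩ := Tech.isPGroup_iff_mem.1 S.isPGroup' x hx
    obtain ⟨c, e⟩ := mem_scalars_iff_sc.1 ((QuotientGroup.eq_one_iff x).1 e)
    have := hP.det x.2
    refine DihSyl.eq_one_of_odd_of_two_pow (m := 3) (by decide) (Subtype.ext ?_) hk
    rw [← show _ = (x : GL (Fin 3) F) from e, coe_sc] at this
    rw [SubmonoidClass.coe_pow, ← show _ = (x : GL (Fin 3) F) from e, ← map_pow,
      show c ^ 3 = 1 from Units.ext (by simpa using this), map_one, coe_one]) h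
  exact ⟨S, n, r, s, hn, h⟩

theorem d3_solv (h2 : (2 : F) ≠ 0) {T X : Subgroup (GL (Fin 3) F)} (hT : IsPGroup 2 T) {n : ℕ}
    {r s : GL (Fin 3) F} (hn : 2 ≤ n) (h : DihSyl.IsDih T n r s) (hd : T ≤ specialLinear (Fin 3) F)
    (hX : X ≤ normalizer (T : Set (GL (Fin 3) F))) : Group.IsSolvable X := by
  have : Fact (Nat.Prime 2) := ⟨Nat.prime_two⟩
  let φ : X →* MulAut T := T.normalizerMonoidHom.comp (inclusion hX)
  have hφ : ∀ x : X, φ x = 1 ↔ (x : GL (Fin 3) F) ∈ centralizer (T : Set (GL (Fin 3) F)) := fun x =>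
    ⟨fun e t ht => (mul_inv_eq_iff_eq_mul.1
        (congrArg (fun σ : MulAut T => (σ ⟨t, ht⟩ : GL (Fin 3) F)) e)).symm,
      fun e => MulEquiv.ext fun t => Subtype.ext (mul_inv_eq_iff_eq_mul.2 (e t t.2).symm)⟩
  have h1 : Group.IsSolvable φ.range := by
    by_cases hK : IsKleinFour T
    · have := Fgs.isSolvable_perm_of_card_le_four T (by rw [hK.card_four])
      exact Group.isSolvable_of_isSolvable_injective (f := (MulAut.toPerm T).comp φ.range.subtype)
        (MulEquiv.toEquiv_injective.comp Subtype.val_injective)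
    · have : IsPGroup 2 φ.range := Tech.isPGroup_iff_mem.2 (by
        rintro _ ⟨x, rfl⟩
        obtain ⟨y, -, z, -, ⟨k, hk⟩, ho, rfl⟩ := GW.exists_two_odd x
        refine ⟨k, ?_⟩
        rw [map_mul, (hφ z).2 (GW.GD.mem_centralizer (Or.inr ⟨n, r, s, hn, h⟩) hT
          (by rwa [orderOf_coe]) (hX z.2) (absurd · hK)), mul_one, ← map_pow, hk, map_one])
      have := this.isNilpotent
      infer_instance
  obtain ⟨k, rfl⟩ := h.exists_pow_of_isPGroup hT
  obtain ⟨z1, z2⟩ := h.half (m := 2 ^ (k - 1)) (by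
    rw [← pow_succ']; congr 1; rcases k with _ | k; simp at hn; simp) (by positivity)
  have hz := h.rpow_mem (2 ^ (k - 1) : ℕ)
  have h3 : Group.IsSolvable φ.ker := Group.isSolvable_of_comm fun x y => by
    have cx := (hφ _).1 x.2
    have cy := (hφ _).1 y.2
    exact Subtype.ext (Subtype.ext (Units.ext (d3_comm h2 (congrArg Units.val z1) (congrArg Units.val h.ss)
      (mem_specialLinear.1 (hd hz)) (mem_specialLinear.1 (hd h.s_mem)) (fun e => z2 (Units.ext e))
      (fun e => h.notMem ((show s = 1 from Units.ext e) ▸ one_mem _)) (fun e => h.notMem ⟨_, Units.ext e⟩)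
      (congrArg Units.val (h.commute_of_sq ⟨_, rfl⟩ z1 h.s_mem).symm)
      (congrArg Units.val (cx _ hz).symm) (congrArg Units.val (cx _ h.s_mem).symm)
      (congrArg Units.val (cy _ hz).symm) (congrArg Units.val (cy _ h.s_mem).symm))))
  exact Group.isSolvable_of_ker_le_range φ.ker.subtype φ.rangeRestrict (by simp)

theorem le_of_perfect3 (h2 : (2 : F) ≠ 0) (hP : QS P) (ht : NoT P) (hE : ⁅E, E⁆ = E) (hn : Nrm E P) :
    E ≤ P := by
  have : Fact (Nat.Prime 2) := ⟨Nat.prime_two⟩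
  obtain ⟨S, n, r, s, h1, h⟩ := dih3 h2 hP ht
  have hS := Tech.IsSylowIn.of_sylow_subgroup S
  let N := normalizer (P : Set (GL (Fin 3) F))
  let π := QuotientGroup.mk' (P.subgroupOf N)
  have hEN : E ≤ N := nrm_iff_le_normalizer.1 hn
  have h3 := d3_solv h2 hS.pgroup h1 (GW.isDih_map_of_injOn h P.subtype fun x _ e => Subtype.ext e)
    (hS.le.trans (le_specialLinear_of_perfect hP.perfect)) (inf_le_left (b := N))
  have h4 : (E.subgroupOf N).map π = ⊥ := Comp.eq_bot_of_perfect_of_le_solvable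
    (H := (π.comp (inclusion (inf_le_right (a := normalizer ((S.map P.subtype : Subgroup _) : Set _))))).range)
    (by
      rw [← map_commutator]; congr 1
      exact map_injective N.subtype_injective (by rw [map_commutator, map_subgroupOf_eq_of_le hEN, hE]))
    (by
      rintro _ ⟨x, hx, rfl⟩
      obtain ⟨m, hm, e⟩ := hS.frattini' x.2
      refine ⟨⟨_, e, N.mul_mem x.2 (le_normalizer hm)⟩, ?_⟩
      change π (x * ⟨m, le_normalizer hm⟩) = _
      rw [map_mul, show π ⟨m, le_normalizer hm⟩ = 1 from (QuotientGroup.eq_one_iff _).2 hm, mul_one])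
    (Group.isSolvable_of_surjective (MonoidHom.rangeRestrict_surjective _))
  rw [Subgroup.map_eq_bot_iff, QuotientGroup.ker_mk'] at h4
  exact fun x hx => h4 (show (⟨x, hEN hx⟩ : N) ∈ E.subgroupOf N from hx)

end CfsgLib.Wl5
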