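import Mathlib
import Cfsg.Agent.Lib.Wl5.Defs
import Cfsg.Agent.Lib.Wl5.Heis
import Cfsg.Agent.Lib.Wl5.Dim3B
import Cfsg.Agent.Lib.Mit.Main
import Cfsg.Agent.Lib.Asch.Linear
import Cfsg.Agent.Lib.Asch.OrthOrbit
import Cfsg.Agent.Lib.Asch.OrthField
import Cfsg.Agent.Lib.Fgs.AutBound
import Cfsg.Agent.Lib.Char.Burnside

/-! Subgroups of `GL₃(q)` containing a perfect irreducible group.  See `plans/WL5.md`. -/

set_option autoImplicit false
set_option linter.unusedSectionVars false

namespace CfsgLib.Wl5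

open Matrix Subgroup Cfsg Cfsg.Geo CfsgLib.Asch
open scoped commutatorElement
open CfsgLib.Mit

variable {F : Type*} [Field F] [Fintype F] {G K X P E : Subgroup (GL (Fin 3) F)}

theorem dim3_triv {G A : Type*} [Group G] [Group A] {E : Subgroup G} (hE : ⁅E, E⁆ = E) (ψ : E →* A) {B : Subgroup A}
    (hB : Group.IsSolvable B) (h : ∀ e, ψ e ∈ B) (e : E) : ψ e = 1 := by
  have t : ⁅(⊤ : Subgroup E), (⊤ : Subgroup E)⁆ = ⊤ := map_injective E.subtype_injective (by
    rw [map_commutator, ← MonoidHom.range_eq_map, range_subtype, hE])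
  exact (Comp.eq_bot_of_perfect_of_le_solvable (L := (⊤ : Subgroup E).map ψ) (by rw [← map_commutator, t])
    (by rintro _ ⟨e, -, rfl⟩; exact h e) hB).le (mem_map_of_mem ψ (mem_top e))

theorem comm_scalar {ι : Type} [Fintype ι] [DecidableEq ι] {K : Subgroup (GL ι F)} (hK : ⁅K, K⁆ = K)
    (he : env K = ⊤) {c : GL ι F} (h : ∀ k ∈ K, c * k * c⁻¹ * k⁻¹ ∈ scalars ι F) : c ∈ scalars ι F := by
  refine mem_scalars_of_comm_env he fun y hy => (mem_centralizer_singleton_iff.1 ?_).symm
  rw [← hK] at hy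
  refine commutator_le.2 (fun a ha b hb => mem_centralizer_singleton_iff.2 (mul_inv_eq_iff_eq_mul.1 ?_).symm) hy
  have ea : c * a * c⁻¹ = c * a * c⁻¹ * a⁻¹ * a := by group
  have eb : c * b * c⁻¹ = c * b * c⁻¹ * b⁻¹ * b := by group
  have hs := h a ha
  have ht := h b hb
  rw [conjugate_commutatorElement, ea, eb]
  generalize c * a * c⁻¹ * a⁻¹ = s at hs
  generalize c * b * c⁻¹ * b⁻¹ = t at ht
  calc ⁅s * a, t * b⁆ = s * (a * t * (b * a⁻¹ * s⁻¹ * b⁻¹) * t⁻¹) := by rw [commutatorElement_def]; group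
    _ = s * (a * b * a⁻¹ * s⁻¹ * b⁻¹) := by rw [mul_assoc a, mul_assoc a, mul_comm_of_mem_scalars ht]; group
    _ = _ := by
      rw [← mul_comm_of_mem_scalars (inv_mem hs), commutatorElement_def]; group

theorem stab3 (hK : ⁅K, K⁆ = K) (he : env K = ⊤) {A : Subalgebra F (Matrix (Fin 3) (Fin 3) F)}
    (hA : Stab K A) : A = ⊥ ∨ A = ⊤ := by
  have hi := irred_of_span (env_eq_top_iff.1 he)
  by_contra hn
  rw [not_or] at hn
  by_cases hc : ctr A = ⊥
  · obtain ⟨a, b, e, -, ha, hb, -⟩ := exists_tensor_coord hi hA hc hn.1 hn.2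
    have := Fintype.card_congr e
    simp only [Fintype.card_prod, Fintype.card_fin] at this
    nlinarith
  rcases c2_or_c3 hi hA.ctr (ctr_comm A) hc with ⟨t, m, D, hD, hle⟩ | ⟨r, L, hr, hL, -, hle⟩
  · have h1 := card_eq_of_decomp hD
    have h2 := hD.pos
    rw [Fintype.card_fin] at h1
    exact not_irred_of_perfect hK hD hle (Fgs.isSolvable_perm_of_card_le_four _ (by
      rw [Nat.card_eq_fintype_card, Fintype.card_fin]; nlinarith)) hi
  · have hs := stab_of_le_normalizer hle
    have : L = ⊥ := eq_bot_iff.2 fun x hx => mem_bot_iff.2 (scalar_of_comm_env he fun y hy => by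
      let S : Subgroup (GL (Fin 3) F) :=
        { carrier := {g | cj g x = x}
          mul_mem' := fun {a b} (ha : cj a x = x) (hb : cj b x = x) => by
            change cj (a * b) x = x
            rw [cj_mul, hb, ha]
          one_mem' := by change cj 1 x = x; simp [cj_apply]
          inv_mem' := fun {a} (ha : cj a x = x) => by
            change cj a⁻¹ x = x
            rw [← cj_symm_apply, AlgEquiv.symm_apply_eq, ha] }
      rw [← hK] at hy
      refine (cj_eq_iff.1 (commutator_le (H₃ := S).2 (fun a ha b hb => ?_) hy)).symm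
      change cj ⁅a, b⁆ x = x
      rw [commutatorElement_def, cj_mul, cj_mul, cj_mul,
        cj_comm_of_field hL hs hb (inv_mem ha) (hs _ (inv_mem hb) _ hx), cj_cj_inv, cj_cj_inv])
    have h1 := hL.finrank_eq
    rw [this, Subalgebra.finrank_bot] at h1
    exact hr.one_lt.ne h1

theorem exists_core3 (hle : K ≤ G) (hK : ⁅K, K⁆ = K) (he : env K = ⊤) (hX : X ≤ G) (hn : Nrm G X)
    (hs : ¬ X ≤ scalars (Fin 3) F) : ∃ P, P ≤ X ∧ Nrm G P ∧ QS P := by
  have := finite_gl (F := F)
  rcases trichotomy (by simp) (irred_mono (irred_of_span (env_eq_top_iff.1 he)) (matrixSet_mono hle))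
    (fun N _ h => (stab3 hK he (h.mono hle).stab_env).imp_left env_eq_bot_iff.1) with
    ⟨r, R, m, h⟩ | ⟨t, m, L, φ, e, Q, h⟩ | ⟨P, h⟩
  · exfalso
    have h3 : r = 3 := (Nat.prime_dvd_prime_iff_eq h.prime Nat.prime_three).1 (by
      have := h.dim
      rw [Fintype.card_fin] at this
      exact this ▸ dvd_pow_self r (by have := h.one_le; omega))
    subst h3
    have h1 : m = 1 := (Nat.pow_right_injective (a := 3) (by norm_num) (a₁ := 1) h.dim).symm
    subst h1
    have : Fact (Nat.Prime 3) := ⟨Nat.prime_three⟩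
    have c9 : Nat.card (R.map (heisPi (Fin 3) F)) = 3 ^ 2 := by
      have e : ((heisPi (Fin 3) F).comp R.subtype).ker = center R := ext fun x => heis_pi_eq_one.trans (h.center_iff x).symm
      have a := index_ker ((heisPi (Fin 3) F).comp R.subtype)
      rw [e, MonoidHom.range_comp, range_subtype] at a
      have b := card_mul_index (center R)
      rw [a, h.card] at b
      exact Nat.eq_of_mul_eq_mul_left Nat.card_pos b
    have : IsMulCommutative (R.map (heisPi (Fin 3) F)) := ⟨⟨by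
      rintro ⟨_, a, ha, rfl⟩ ⟨_, b, hb, rfl⟩
      exact Subtype.ext (heis_comm_iff.1 (h.comm_mem a ha b hb))⟩⟩
    have d := Fgs.card_mulAut_dvd_of_elementary (p := 3) (by
      rintro ⟨_, a, ha, rfl⟩
      exact Subtype.ext ((map_pow _ _ _).symm.trans (heis_pi_eq_one.2 (h.pow_mem a ha)))) c9
    have sv : Group.IsSolvable (MulAut (R.map (heisPi (Fin 3) F))) :=
      Char.isSolvable_of_card_dvd_pow_mul_pow (a := 4) (b := 1) Nat.prime_two Nat.prime_three
        (by simpa [Finset.prod_range_succ] using d)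
    have nK : ∀ k : K, ((heisPi (Fin 3) F).comp K.subtype) k ∈ normalizer (R.map (heisPi (Fin 3) F) : Set _) := fun k =>
      le_normalizer_map _ (mem_map_of_mem _ (nrm_iff_le_normalizer.1 h.nrm (hle k.2)))
    have hR : R ≤ scalars (Fin 3) F := fun c hc => comm_scalar hK he fun k hk => heis_comm_iff.2 (by
      have := dim3_triv hK ((R.map (heisPi (Fin 3) F)).normalizerMonoidHom.comp (MonoidHom.codRestrict _ _ nK))
        (B := ⊤) inferInstance (fun _ => mem_top _) ⟨k, hk⟩
      exact (mul_inv_eq_iff_eq_mul.1 (congrArg (fun σ => (σ ⟨_, mem_map_of_mem _ hc⟩).1) this)).symm)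
    exact not_le_scalars_of_irred (by simp) (irred_of_span (env_eq_top_iff.1 h.env_top)) hR
  · have h1 := Fintype.card_congr e
    simp only [Fintype.card_fin, Fintype.card_pi, Finset.prod_const, Finset.card_univ] at h1
    have h2 : 2 ^ 2 ≤ m ^ t := (Nat.pow_le_pow_left h.two_le_m 2).trans
      (Nat.pow_le_pow_right (by have := h.two_le_m; omega) h.two_le_t)
    omega
  · refine ⟨P, le_of_perfect h.perfect ?_, h.normal, h.perfect, h.simple, h.nonabelian, h.env_top⟩
    have := h.simple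
    have nX : (X.subgroupOf P).Normal := ⟨fun x hx g => hn _ (h.le g.2) _ hx⟩
    rcases (nX.map _ (QuotientGroup.mk'_surjective ((scalars (Fin 3) F).subgroupOf P))).eq_bot_or_eq_top with e | e
    · refine (hs fun g hg => h.centralizer_scalar g (hX hg) fun x hx => ?_).elim
      have m : g * x * g⁻¹ * x⁻¹ ∈ P := mul_mem (h.normal g (hX hg) x hx) (inv_mem hx)
      refine bar_mk_eq_one (x := ⟨_, m⟩).1 (e.le (mem_map_of_mem _ (?_ : g * x * g⁻¹ * x⁻¹ ∈ X)))
      rw [mul_assoc, mul_assoc, ← mul_assoc x]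
      exact mul_mem hg (hn x (h.le hx) _ (inv_mem hg))
    · intro x hx
      obtain ⟨y, hy, e'⟩ := e.ge (mem_top (QuotientGroup.mk ⟨x, hx⟩))
      have := QuotientGroup.eq.1 e'
      rw [← mul_inv_cancel_left y.1 x]
      exact mul_mem (mem_sup_left hy) (mem_sup_right this)

theorem key3 (h2 : (2 : F) ≠ 0) (hle : K ≤ G) (hK : ⁅K, K⁆ = K) (he : env K = ⊤) (hX : X ≤ G)
    (hn : Nrm G X) (hs : ¬ X ≤ scalars (Fin 3) F) (ht : NoT X) :
    K ≤ X ∧ ∀ E ≤ G, ⁅E, E⁆ = E → ∀ w ∈ E, w * w = 1 → (∀ g ∈ E, g * w = w * g) → w = 1 := by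
  have := finite_gl (F := F)
  obtain ⟨P, h1, h3, hP⟩ := exists_core3 hle hK he hX hn hs
  have ht' : NoT P := fun g hg => ht g (h1 hg)
  refine ⟨(le_of_perfect3 h2 hP ht' hK (h3.mono hle)).trans h1, fun E hE hp w hw w2 c => by_contra fun w1 => ?_⟩
  have le := le_of_perfect3 h2 hP ht' hp (h3.mono hE)
  exact w1 (congrArg Subtype.val (dim3_triv hp (inclusion le) ((dih3 h2 hP ht').solvable_Hc
    (fun _ _ _ h => FT.odd_order_solvable h) (a := ⟨w, le hw⟩) (StrEmb.orderOf_eq_two (Subtype.ext w2)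
      fun e => w1 (congrArg Subtype.val e))) (fun e => mem_centralizer_singleton_iff.2 (Subtype.ext (c e e.2))) ⟨w, hw⟩))

end CfsgLib.Wl5
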