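import Mathlib
import Cfsg.Agent.Lib.Wl5.J3
import Cfsg.Agent.Lib.Wl5.Dim2
import Cfsg.Agent.Lib.Wl5.Dim3

/-! The involution `diag(1,1,1,-1,-1)` is isolated.  See `plans/WL5.md`. -/

set_option autoImplicit false
set_option linter.unusedSectionVars false

namespace CfsgLib.Wl5

open Matrix Subgroup Cfsg Cfsg.Geo CfsgLib.Asch
open scoped commutatorElement

variable {F : Type*} [Field F]

theorem coe_zz : ((zz : GL I5 F) : Matrix I5 I5 F) = fromBlocks 1 0 0 (-1) := by
  simp [zz, coe_bd]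

theorem zz_mul_zz : (zz : GL I5 F) * zz = 1 := by
  rw [zz, ← map_mul, ← map_one bd]; congr 1; ext1 <;> simp

theorem exists_bd (h2 : (2 : F) ≠ 0) {g : GL I5 F} (h : g * zz = zz * g) : ∃ c, bd c = g := by
  have key : ∀ g : GL I5 F, g * zz = zz * g →
      (g : Matrix I5 I5 F) = fromBlocks g.1.toBlocks₁₁ 0 0 g.1.toBlocks₂₂ := fun g h => by
    have h1 := congrArg Units.val h
    rw [Units.val_mul, Units.val_mul, coe_zz, ← fromBlocks_toBlocks g.1, fromBlocks_multiply,
      fromBlocks_multiply, fromBlocks_inj] at h1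
    simp only [Matrix.mul_zero, Matrix.mul_neg, Matrix.mul_one, zero_add, Matrix.one_mul, Matrix.zero_mul,
      add_zero, Matrix.neg_mul] at h1
    have e : ∀ {m n : Type} (A : Matrix m n F), A = -A → A = 0 := fun A hA => by
      ext i j
      have := congrFun (congrFun hA i) j
      exact (mul_eq_zero.1 (show 2 * A i j = 0 by simp at this; linear_combination this)).resolve_left h2
    conv_lhs => rw [← fromBlocks_toBlocks g.1, e _ h1.2.1.symm, e _ h1.2.2.1]
  have h1 := key g h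
  have h3 := key g⁻¹ (by rw [inv_mul_eq_iff_eq_mul, ← mul_assoc, h, mul_inv_cancel_right])
  have h4 := g.mul_inv
  have h5 := g.inv_mul
  rw [h1, h3, fromBlocks_multiply, ← fromBlocks_one, fromBlocks_inj] at h4 h5
  simp only [Matrix.mul_zero, zero_add, Matrix.zero_mul, add_zero] at h4 h5
  exact ⟨(⟨_, _, h4.1, h5.1⟩, ⟨_, _, h4.2.2.2, h5.2.2.2⟩), Units.ext h1.symm⟩

theorem bd_zz (c : P32 F) : bd c * zz = zz * bd c := by
  rw [zz, ← map_mul, ← map_mul]; congr 1; ext1 <;> simp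

theorem zz_mulVec (v : I5 → F) :
    (zz : GL I5 F).1 *ᵥ v = Sum.elim (v ∘ Sum.inl) (-(v ∘ Sum.inr)) := by
  rw [coe_zz, fromBlocks_mulVec]; simp [neg_mulVec]

theorem neg_vec (h2 : (2 : F) ≠ 0) {v : I5 → F} (h : (zz : GL I5 F).1 *ᵥ v = -v) :
    ∃ w : Fin 2 → F, v = Sum.elim (0 : Fin 3 → F) w := by
  rw [zz_mulVec] at h
  refine ⟨v ∘ Sum.inr, funext fun i => ?_⟩
  rcases i with i | i
  · have := congrFun h (Sum.inl i)
    exact (mul_eq_zero.1 (show 2 * v (Sum.inl i) = 0 by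
      simp at this; linear_combination this)).resolve_left h2
  · rfl

theorem pos_vec (h2 : (2 : F) ≠ 0) {v : I5 → F} (h : (zz : GL I5 F).1 *ᵥ v = v) :
    ∃ w : Fin 3 → F, v = Sum.elim w (0 : Fin 2 → F) := by
  rw [zz_mulVec] at h
  refine ⟨v ∘ Sum.inl, funext fun i => ?_⟩
  rcases i with i | i
  · rfl
  · have := congrFun h (Sum.inr i)
    exact (mul_eq_zero.1 (show 2 * v (Sum.inr i) = 0 by
      simp at this; linear_combination -this)).resolve_left h2

theorem elim_smul (a : F) (v : Fin 3 → F) (w : Fin 2 → F) :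
    a • (Sum.elim v w : I5 → F) = Sum.elim (a • v) (a • w) := by
  ext (i | i) <;> rfl

theorem elim_inj {v v' : Fin 3 → F} {w w' : Fin 2 → F}
    (h : (Sum.elim v w : I5 → F) = Sum.elim v' w') : v = v' ∧ w = w' :=
  ⟨funext fun i => congrFun h (Sum.inl i), funext fun i => congrFun h (Sum.inr i)⟩

/-- eigenvectors are transported by conjugation -/
theorem eig_conj {g h : GL I5 F} {v : I5 → F} {a : F} (e : g.1 *ᵥ v = a • v) :
    (h⁻¹ * g * h).1 *ᵥ (h⁻¹).1 *ᵥ v = a • (h⁻¹).1 *ᵥ v := by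
  rw [Units.val_mul, Units.val_mul, ← mulVec_mulVec, ← mulVec_mulVec, mulVec_inv_mulVec, e, mulVec_smul]

theorem inv_mulVec_ne {h : GL I5 F} {v : I5 → F} (hv : v ≠ 0) : (h⁻¹).1 *ᵥ v ≠ 0 := fun h0 =>
  hv (by rw [← mulVec_inv_mulVec h v, h0, mulVec_zero])

theorem eig_unique {ι : Type} {v : ι → F} (hv : v ≠ 0) {a b : F} (h : a • v = b • v) : a = b :=
  smul_left_injective F hv h

theorem exists_eig {ι : Type} [Fintype ι] [DecidableEq ι] {W : Matrix ι ι F} (h : W * W = 1) {ε : F}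
    (hε : ε * ε = 1) (h1 : W ≠ -ε • 1) : ∃ v, v ≠ 0 ∧ W *ᵥ v = ε • v := by
  obtain ⟨v, hv⟩ : ∃ v, (W + ε • 1) *ᵥ v ≠ 0 := by
    by_contra hc
    push Not at hc
    exact h1 (by rw [neg_smul]; exact eq_neg_of_add_eq_zero_left (eq_zero_of_forall_mulVec hc))
  refine ⟨_, hv, ?_⟩
  rw [mulVec_mulVec, ← smul_mulVec, mul_add, h, smul_add, smul_smul, hε, one_smul, add_comm]
  simp

/-- an involution of `SL₃` with trace three -/
theorem eq_one_of_trace (h2 : (2 : F) ≠ 0) {W : Matrix (Fin 3) (Fin 3) F} (h : W * W = 1)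
    (hd : W.det = 1) (ht : W.trace = 3) : W = 1 := by
  have ch : (2 : F) • (W * W * W) - (2 * W.trace) • (W * W) + (W.trace ^ 2 - (W * W).trace) • W -
      (2 * W.det) • (1 : Matrix (Fin 3) (Fin 3) F) = 0 := by
    ext i j
    fin_cases i <;> fin_cases j <;>
      simp [mul_apply, Fin.sum_univ_three, det_fin_three, trace_fin_three] <;> ring
  rw [h, hd, ht] at ch
  have h8 : (2 * 2 * 2 : F) ≠ 0 := by simp [h2]
  refine smul_right_injective _ h8 ?_
  simp only [trace_one, Fintype.card_fin, Nat.cast_ofNat, one_mul] at ch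
  linear_combination (norm := module) ch

variable [Fintype F]

/-- the standing hypotheses -/
structure Ctx (H : Subgroup (GL I5 F)) (K : Subgroup (P32 F)) : Prop where
  prime : (Fintype.card F).Prime
  five : 5 ≤ Fintype.card F
  six : ∃ t : F, t ≠ 0 ∧ t ^ 6 ≠ 1
  det : H ≤ specialLinear I5 F
  z : zz ∈ H
  le : ∀ k ∈ K, bd k ∈ H
  perfect : ⁅K, K⁆ = K
  env3 : env (p3 K) = ⊤
  env2 : env (p2 K) = ⊤
  tv : NoT H

/-- the elements acting trivially on the second, resp. first summand -/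
abbrev X3 (H : Subgroup (GL I5 F)) : Subgroup (GL (Fin 3) F) := (H.comap bd).comap (MonoidHom.inl _ _)

abbrev Y2 (H : Subgroup (GL I5 F)) : Subgroup (GL (Fin 2) F) := (H.comap bd).comap (MonoidHom.inr _ _)

namespace Ctx

variable {H : Subgroup (GL I5 F)} {K : Subgroup (P32 F)} (h : Ctx H K)
include h

theorem charP : CharP F (Fintype.card F) := by
  obtain ⟨p, hc, n, hp, e⟩ := FiniteField.card' F
  have := h.prime
  rw [e] at this
  rw [e]; simpa [Nat.Prime.eq_one_of_pow this] using hc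

theorem cast_ne {n : ℕ} (h0 : 0 < n) (hn : n < 5) : (n : F) ≠ 0 := fun e => by
  have := h.charP
  have := Nat.le_of_dvd h0 ((CharP.cast_eq_zero_iff F _ n).1 e)
  have := h.five
  omega

theorem two : (2 : F) ≠ 0 := by exact_mod_cast h.cast_ne (n := 2) (by omega) (by omega)

theorem three : (3 : F) ≠ 0 := by exact_mod_cast h.cast_ne (n := 3) (by omega) (by omega)

theorem exists_cast (a : F) : ∃ k : ℕ, (k : F) = a := by
  have := h.charP
  have := Fact.mk h.prime
  obtain ⟨x, rfl⟩ := (ZMod.ringEquivOfPrime F h.prime rfl).surjective a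
  exact ⟨x.val, by rw [← map_natCast (ZMod.ringEquivOfPrime F h.prime rfl), ZMod.natCast_zmod_val]⟩

theorem det_C {c : P32 F} (hc : bd c ∈ H) : c.1.1.det * c.2.1.det = 1 := by
  rw [← det_bd]; exact Mit.mem_specialLinear.1 (h.det hc)

theorem perf3 : ⁅p3 K, p3 K⁆ = p3 K := by rw [← map_commutator, h.perfect]

theorem perf2 : ⁅p2 K, p2 K⁆ = p2 K := by rw [← map_commutator, h.perfect]

theorem not_sc2 : ¬ p2 K ≤ scalars (Fin 2) F := fun hs =>
  not_comm_of_env (by simp) h.env2 fun _ hx y _ => mul_comm_of_mem_scalars (hs hx) y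

theorem ne_bot2 : p2 K ≠ ⊥ := fun e => h.not_sc2 (e ▸ bot_le)

theorem K_le : K ≤ H.comap bd := h.le

theorem det2 {k : P32 F} (hk : k ∈ K) : k.2.1.det = 1 := by
  have : p2 K ≤ specialLinear (Fin 2) F := by
    rw [← h.perf2]
    refine commutator_le.2 fun a _ b _ => ?_
    simp [specialLinear, commutatorElement_def]
  exact Mit.mem_specialLinear.1 (this (mem_map_of_mem _ hk))

omit h in
theorem X3_le : X3 H ≤ p3 (H.comap bd) := fun g hg => ⟨_, hg, rfl⟩

omit h in
theorem X3_nrm : Nrm (p3 (H.comap bd)) (X3 H) := by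
  rintro _ ⟨c, hc, rfl⟩ x hx
  have := (H.comap bd).mul_mem ((H.comap bd).mul_mem hc hx) ((H.comap bd).inv_mem hc)
  simpa [Prod.mk_mul_mk, Prod.ext_iff] using
    (show ((c.1 * x * c.1⁻¹, 1) : P32 F) ∈ H.comap bd from by convert this using 1; ext1 <;> simp)

omit h in
theorem Y2_nrm : Nrm (p2 (H.comap bd)) (Y2 H) := by
  rintro _ ⟨c, hc, rfl⟩ x hx
  have := (H.comap bd).mul_mem ((H.comap bd).mul_mem hc hx) ((H.comap bd).inv_mem hc)
  exact (show ((1, c.2 * x * c.2⁻¹) : P32 F) ∈ H.comap bd from by convert this using 1; ext1 <;> simp)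

theorem X3_tv : NoT (X3 H) := fun g hg v φ h0 e => by
  have := h.tv _ hg (Sum.elim v 0) (Sum.elim φ 0) (by simpa using h0) (by
    rw [coe_bd]; ext (i | i) (j | j) <;> simp [e, vecMulVec_apply, one_apply])
  exact congrArg Prod.fst (bd_injective (this.trans (map_one bd).symm))

theorem Y2_tv : NoT (Y2 H) := fun g hg v φ h0 e => by
  have := h.tv _ hg (Sum.elim 0 v) (Sum.elim 0 φ) (by simpa using h0) (by
    rw [coe_bd]; ext (i | i) (j | j) <;> simp [e, vecMulVec_apply, one_apply])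
  exact congrArg Prod.snd (bd_injective (this.trans (map_one bd).symm))

theorem key (hs : ¬ X3 H ≤ scalars (Fin 3) F) : p3 K ≤ X3 H ∧ ∀ E ≤ p3 (H.comap bd), ⁅E, E⁆ = E →
    ∀ w ∈ E, w * w = 1 → (∀ g ∈ E, g * w = w * g) → w = 1 :=
  key3 h.two (map_mono h.K_le) h.perf3 h.env3 X3_le X3_nrm hs h.X3_tv

theorem split (hs : ¬ X3 H ≤ scalars (Fin 3) F) : p2 K ≤ Y2 H := by
  rintro _ ⟨k, hk, rfl⟩
  have := (H.comap bd).mul_mem ((H.comap bd).inv_mem ((h.key hs).1 (mem_map_of_mem _ hk))) (h.K_le hk)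
  exact (show ((1, k.2) : P32 F) ∈ H.comap bd from by convert this using 1; ext1 <;> simp)

theorem scalar_of (hs : X3 H ≤ scalars (Fin 3) F) {c : P32 F} (hc : bd c ∈ H)
    (h2 : c.2 ∈ scalars (Fin 2) F) : c.1 ∈ scalars (Fin 3) F := by
  refine comm_scalar h.perf3 h.env3 ?_
  rintro _ ⟨k, hk, rfl⟩
  have := (H.comap bd).mul_mem ((H.comap bd).mul_mem ((H.comap bd).mul_mem hc (h.K_le hk))
    ((H.comap bd).inv_mem hc)) ((H.comap bd).inv_mem (h.K_le hk))
  exact hs (show ((c.1 * k.1 * c.1⁻¹ * k.1⁻¹, 1) : P32 F) ∈ H.comap bd from by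
    convert this using 1; ext1 <;> simp [mul_comm_of_mem_scalars h2])

/-- a scalar in `X3` has cube one -/
theorem cube {c : P32 F} (hc : bd c ∈ H) (h2 : c.2 = 1) {a : F} (ha : c.1.1 = a • 1) : a ^ 3 = 1 := by
  simpa [h2, ha] using h.det_C hc

theorem zz_ne : (zz : GL I5 F) ≠ 1 := fun e => by
  have := congrArg (fun g : GL I5 F => g.1 (Sum.inr 0) (Sum.inr 0)) e
  simp [coe_zz] at this
  exact h.two (by linear_combination -this)

variable {g : GL I5 F} (hg : g ∈ H) {W : P32 F} (hW : bd W = g * zz * g⁻¹)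
include hg hW

theorem mem_W : bd W ∈ H := hW ▸ H.mul_mem (H.mul_mem hg h.z) (H.inv_mem hg)

omit h hg [Fintype F] in
theorem W_sq : W * W = 1 := bd_injective (by
  rw [map_mul, hW, map_one, conj_mul, zz_mul_zz]; simp)

omit hg in
theorem tr_ex {x : GL I5 F} (hx : x * bd W = bd W * x) : ∃ c, bd c = g⁻¹ * x * g :=
  exists_bd h.two (by
    rw [hW] at hx
    calc _ = g⁻¹ * (x * (g * zz * g⁻¹)) * g := by group
      _ = _ := by rw [hx]; group)

omit hg in
theorem tr_neg {v : I5 → F} (hv : (bd W).1 *ᵥ v = (-1 : F) • v) :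
    ∃ w : Fin 2 → F, (g⁻¹).1 *ᵥ v = Sum.elim (0 : Fin 3 → F) w :=
  neg_vec h.two (by simpa [hW, mul_assoc] using eig_conj (h := g) hv)

omit hg in
theorem tr_pos {v : I5 → F} (hv : (bd W).1 *ᵥ v = (1 : F) • v) :
    ∃ w : Fin 3 → F, (g⁻¹).1 *ᵥ v = Sum.elim w (0 : Fin 2 → F) :=
  pos_vec h.two (by simpa [hW, mul_assoc] using eig_conj (h := g) hv)

theorem case_one : W.2 ≠ 1 := fun h1 => by
  have hm := h.mem_W hg hW
  have hW2 := W_sq hW
  have hs : ¬ X3 H ≤ scalars (Fin 3) F := fun hs => by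
    obtain ⟨a, ha⟩ := (mem_scalars_iff _).1 (hs (show ((W.1, 1) : P32 F) ∈ H.comap bd from h1 ▸ hm))
    have e3 := h.cube hm h1 ha
    have e2 : (a : F) * a = 1 := by
      have := congrFun (congrFun (congrArg (fun c : P32 F => c.1.1) hW2) 0) 0
      simpa [ha] using this
    have e1 : W = 1 := Prod.ext (Units.ext (by
      rw [ha, show (a : F) = 1 by linear_combination e3 - a * e2]; simp)) h1
    rw [e1, map_one, eq_comm, mul_inv_eq_one, mul_eq_left] at hW
    exact h.zz_ne hW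
  let f : GL (Fin 2) F →* GL I5 F :=
    (MulAut.conj g⁻¹).toMonoidHom.comp (bd.comp (MonoidHom.inr _ _))
  let j : GL (Fin 3) F →* GL I5 F := bd.comp (MonoidHom.inl _ _)
  have hj : Function.Injective j := fun a b e => congrArg Prod.fst (bd_injective e)
  have hf : ∀ y, f y = g⁻¹ * bd (1, y) * g := fun y => by simp [f]
  have hr : ∀ y, ∃ x, j x = f y := fun y => by
    obtain ⟨c, hc⟩ := h.tr_ex hW (x := bd (1, y)) (by
      rw [← map_mul, ← map_mul]; congr 1; ext1 <;> simp [h1])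
    refine ⟨c.1, ?_⟩
    rw [hf, ← hc]
    refine congrArg bd (Prod.ext rfl (Units.ext (matrix_ext_mulVec fun w => ?_)))
    obtain ⟨v, hv⟩ : ∃ v, (g⁻¹).1 *ᵥ v = Sum.elim (0 : Fin 3 → F) w := ⟨_, inv_mulVec_mulVec g _⟩
    have e1 : (bd W).1 *ᵥ v = -v := by
      have := eig_conj (h := g⁻¹) (g := zz) (a := -1) (v := Sum.elim 0 w) (by
        rw [zz_mulVec]; ext (i | i) <;> simp)
      rw [← hv, inv_inv, mulVec_inv_mulVec] at this
      simpa [hW] using this
    rw [← Sum.elim_comp_inl_inr v, bd_mulVec] at e1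
    have e2 : v ∘ Sum.inr = 0 := by
      ext i
      have := congrFun e1 (Sum.inr i)
      simp [h1] at this
      exact (mul_eq_zero.1 (show 2 * v (Sum.inr i) = 0 by linear_combination this)).resolve_left h.two
    have e3 := eig_conj (h := g) (g := bd (1, y)) (a := 1) (v := v) (by
      rw [← Sum.elim_comp_inl_inr v, bd_mulVec, e2]; simp)
    rw [← hc, hv, bd_mulVec, one_smul] at e3
    simpa using (elim_inj e3).2.symm
  have hE : (((p2 K).map f).comap j).map j = (p2 K).map f := map_comap_eq_self (by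
    rintro _ ⟨y, -, rfl⟩; exact hr y)
  obtain ⟨w, hw⟩ := hr (-1)
  have hw1 := (h.key hs).2 (((p2 K).map f).comap j) (by
      rintro x ⟨y, hy, e⟩
      exact X3_le (show j x ∈ H from e ▸ hf y ▸ H.mul_mem (H.mul_mem (H.inv_mem hg) (h.split hs hy)) hg))
    (map_injective hj (by rw [map_commutator, hE, ← map_commutator, h.perf2])) w
    ⟨-1, neg_one_mem h.two h.perf2 h.ne_bot2, hw.symm⟩
    (hj (by rw [map_mul, hw, ← map_mul]; simp))
    (by
      rintro x ⟨y, -, e⟩
      exact hj (by rw [map_mul, map_mul, hw, ← e, ← map_mul, ← map_mul]; simp))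
  rw [hw1, map_one, hf, eq_comm, mul_assoc, inv_mul_eq_one, eq_comm, mul_eq_right] at hw
  exact h.zz_ne hw

theorem case_neg (h1 : W.2 = -1) : bd W = zz := by
  have e1 : W.1.1.det = 1 := by simpa [h1, det_neg] using h.det_C (h.mem_W hg hW)
  have e2 : (bd W).1.trace = (zz : GL I5 F).1.trace := by rw [hW, ← cj_coe, trace_cj]
  rw [coe_bd, coe_zz, h1] at e2
  simp [trace, Fintype.sum_sum_type] at e2
  have e3 := eq_one_of_trace h.two (congrArg (fun c : P32 F => c.1.1) (W_sq hW)) e1 (by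
    simpa [trace] using e2)
  exact congrArg bd (Prod.ext (Units.ext e3) h1)

end Ctx

end CfsgLib.Wl5
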