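import Mathlib
import Cfsg.Agent.Lib.Wl5.Iso

/-! The involution `diag(1,1,1,-1,-1)` is isolated: the second case.  See `plans/WL5.md`. -/

set_option autoImplicit false
set_option linter.unusedSectionVars false

namespace CfsgLib.Wl5

open Matrix Subgroup Cfsg Cfsg.Geo CfsgLib.Asch
open scoped commutatorElement

variable {F : Type*} [Field F]

/-- the element of `GL₂` with matrix `A` in the basis `B` -/
theorem exists_sl2 (B : GL (Fin 2) F) {A : Matrix (Fin 2) (Fin 2) F} (hA : A.det = 1) :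
    ∃ u ∈ specialLinear (Fin 2) F, u.1 * B.1 = B.1 * A :=
  ⟨B * GeneralLinearGroup.mkOfDetNeZero A (by simp [hA]) * B⁻¹, Mit.mem_specialLinear.2 (by
    rw [← cj_coe, cj_apply, det_units_conj]; exact hA), by simp⟩

theorem ext_basis {B u v : GL (Fin 2) F} (h : u.1 * B.1 = v.1 * B.1) : u = v :=
  mul_right_cancel (Units.ext h : u * B = v * B)

theorem pow_basis {B u : GL (Fin 2) F} {a : F} (h : u.1 * B.1 = B.1 * !![1, a; 0, 1]) (k : ℕ) :
    (u ^ k).1 * B.1 = B.1 * !![1, k * a; 0, 1] := by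
  induction k with
  | zero => simp [← one_fin_two]
  | succ k ih =>
    rw [pow_succ, Units.val_mul, mul_assoc, h, ← mul_assoc, ih, mul_assoc]
    congr 1; ext i j; fin_cases i <;> fin_cases j <;> simp; ring

theorem exists_basis2 (h2 : (2 : F) ≠ 0) {W : Matrix (Fin 2) (Fin 2) F} {f₁ f₂ : Fin 2 → F}
    (h1 : f₁ ≠ 0) (h1' : f₂ ≠ 0) (e1 : W *ᵥ f₁ = (1 : F) • f₁) (e2 : W *ᵥ f₂ = (-1 : F) • f₂) :
    ∃ B : GL (Fin 2) F, (∀ c : Fin 2 → F, B.1 *ᵥ c = c 0 • f₁ + c 1 • f₂) ∧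
      W * B.1 = B.1 * !![1, 0; 0, -1] := by
  have hB : ∀ c : Fin 2 → F, (of fun i j => ![f₁, f₂] j i) *ᵥ c = c 0 • f₁ + c 1 • f₂ := fun c => by
    ext i; simp [mulVec, dotProduct, mul_comm]
  have hd : (of fun i j => ![f₁, f₂] j i).det ≠ 0 := fun hd => by
    obtain ⟨c, hc0, hc⟩ := exists_mulVec_eq_zero_iff.2 hd
    rw [hB] at hc
    have h3 := congrArg (W *ᵥ ·) hc
    simp only [mulVec_add, mulVec_smul, e1, e2, mulVec_zero] at h3
    have h4 : (2 * c 0) • f₁ = 0 := by linear_combination (norm := module) hc + h3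
    have h5 : (2 * c 1) • f₂ = 0 := by linear_combination (norm := module) hc - h3
    exact hc0 (by ext i; fin_cases i <;> simp_all)
  refine ⟨GeneralLinearGroup.mkOfDetNeZero _ hd, hB, matrix_ext_mulVec fun c => ?_⟩
  simp only [GeneralLinearGroup.val_mkOfDetNeZero, ← mulVec_mulVec, hB, mulVec_add, mulVec_smul, e1, e2]
  simp [mulVec, dotProduct]

variable [Fintype F]

namespace Ctx

variable {H : Subgroup (GL I5 F)} {K : Subgroup (P32 F)} (h : Ctx H K)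
include h

section B

variable (hB : specialLinear (Fin 2) F ≤ p2 (H.comap bd))
include hB

theorem X3_sc : X3 H ≤ scalars (Fin 3) F := by
  by_contra hs
  rcases sl2_normal (M := Y2 H) (by have := h.five; omega) (Y2_nrm.mono hB) with h1 | h1
  · exact h.not_sc2 ((h.split hs).trans h1)
  obtain ⟨u, hu, e⟩ := exists_sl2 (1 : GL (Fin 2) F) (A := !![1, 1; 0, 1]) (by simp)
  simp only [Units.val_one, mul_one, one_mul] at e
  have := h.Y2_tv u (h1 hu) ![1, 0] ![0, 1] (by simp) (by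
    rw [e]; ext i j; fin_cases i <;> fin_cases j <;> simp [vecMulVec_apply])
  rw [this] at e
  simpa using congrFun (congrFun e 0) 1

theorem eq_of_snd {c : P32 F} (hc : bd c ∈ H) (h2 : c.2 = 1) : ∃ a : Fˣ, c.1 = sc _ a ∧ a ^ 3 = 1 := by
  obtain ⟨a, ha⟩ := mem_scalars_iff_sc.1 (h.X3_sc hB (show ((c.1, 1) : P32 F) ∈ H.comap bd from h2 ▸ hc))
  exact ⟨a, ha.symm, Units.ext (by simpa using h.cube hc h2 (a := a) (by rw [← ha, coe_sc]))⟩

theorem exists_unip (B : GL (Fin 2) F) : ∃ u : P32 F, bd u ∈ H ∧ u.1 ^ Fintype.card F = 1 ∧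
    u.2.1 * B.1 = B.1 * !![1, 3; 0, 1] := by
  have := h.charP
  obtain ⟨u, hu, e⟩ := exists_sl2 B (A := !![1, 1; 0, 1]) (by simp)
  obtain ⟨c, hc, rfl⟩ := hB hu
  obtain ⟨a, ha, ha3⟩ := h.eq_of_snd hB (c := c ^ Fintype.card F) ((H.comap bd).pow_mem hc _)
    (ext_basis (B := B) (by simpa [← one_fin_two] using pow_basis e (Fintype.card F)))
  refine ⟨c ^ 3, (H.comap bd).pow_mem hc _, ?_, by simpa using pow_basis e 3⟩
  rw [Prod.pow_fst, ← pow_mul, mul_comm, pow_mul, ← Prod.pow_fst, ha, ← map_pow, ha3, map_one]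

theorem conj_unip {B : GL (Fin 2) F} {u d : P32 F} (hu : bd u ∈ H) (hp : u.1 ^ Fintype.card F = 1)
    (e : u.2.1 * B.1 = B.1 * !![1, 3; 0, 1]) (hd : bd d ∈ H) {a b : F}
    (e' : d.2.1 * B.1 = B.1 * !![a, 0; 0, b]) {k : ℕ} (hk : k * b = a) :
    d.1.1 * u.1.1 = u.1.1 ^ k * d.1.1 := by
  obtain ⟨c, hc, hc3⟩ := h.eq_of_snd hB (c := d * u * d⁻¹ * (u ^ k)⁻¹) ((H.comap bd).mul_mem
    ((H.comap bd).mul_mem ((H.comap bd).mul_mem hd hu) ((H.comap bd).inv_mem hd))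
    ((H.comap bd).inv_mem ((H.comap bd).pow_mem hu k))) (by
      change d.2 * u.2 * d.2⁻¹ * (u.2 ^ k)⁻¹ = 1
      rw [mul_inv_eq_one, mul_inv_eq_iff_eq_mul]
      refine ext_basis (B := B) ?_
      rw [Units.val_mul, Units.val_mul, mul_assoc, mul_assoc, e, e', ← mul_assoc, ← mul_assoc, e',
        pow_basis e, mul_assoc, mul_assoc, ← hk]
      congr 1; ext i j; fin_cases i <;> fin_cases j <;> simp; ring)
  change d.1 * u.1 * d.1⁻¹ * (u.1 ^ k)⁻¹ = _ at hc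
  rw [mul_inv_eq_iff_eq_mul] at hc
  have h1 := congrArg (· ^ Fintype.card F) hc
  simp only [conj_pow, hp] at h1
  rw [(commute_of_mem_scalars (sc_mem c) _).symm.mul_pow, ← pow_mul, mul_comm k, pow_mul, hp, one_pow,
    mul_one, mul_one, mul_inv_cancel, ← map_pow, eq_comm, ← map_one (sc (Fin 3))] at h1
  have h2 : c = 1 := Units.ext (by
    simpa [FiniteField.pow_card] using congrArg Units.val (sc_injective h1))
  rw [h2, map_one, one_mul, mul_inv_eq_iff_eq_mul] at hc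
  simpa using congrArg Units.val hc

theorem sq_ne {B : GL (Fin 2) F} {u : P32 F} (hu : bd u ∈ H)
    (e : u.2.1 * B.1 = B.1 * !![1, 3; 0, 1]) : (u.1.1 - 1) * (u.1.1 - 1) ≠ 0 := fun h0 => by
  obtain ⟨n, hn, en⟩ := exists_sl2 B (A := !![0, -1; 1, 0]) (by simp)
  obtain ⟨n, hn', rfl⟩ := hB hn
  change n.2.1 * _ = _ at en
  have e1 : (n * u * n⁻¹).1.1 - 1 = cj n.1 (u.1.1 - 1) := by
    rw [map_sub, map_one, cj_coe]; rfl
  obtain ⟨v, v0, v1, v2⟩ := j3_ker h0 (M' := (n * u * n⁻¹).1.1 - 1) (by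
    rw [e1, ← map_mul, h0, map_zero])
  have e2 : (n * u * n⁻¹).2.1 * B.1 = B.1 * !![1, 0; -3, 1] := by
    have e3 : (n.2⁻¹).1 * B.1 = B.1 * !![0, 1; -1, 0] := by
      rw [Units.inv_mul_eq_iff_eq_mul, ← mul_assoc, en, mul_assoc]; simp [← one_fin_two]
    change (n.2 * u.2 * n.2⁻¹).1 * _ = _
    rw [Units.val_mul, Units.val_mul, mul_assoc, e3, mul_assoc, ← mul_assoc u.2.1, e, ← mul_assoc,
      ← mul_assoc, en, mul_assoc, mul_assoc]
    simp
  let S := H.comap bd ⊓ (subspaceStabilizer (F ∙ v)).comap (MonoidHom.fst _ _)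
  have hS : ∀ x : GL (Fin 3) F, (x.1 - 1) *ᵥ v = 0 → x ∈ subspaceStabilizer (F ∙ v) := fun x hx =>
    le_subspaceStabilizer_iff.2 (fun y hy w hw => by
      obtain ⟨a, rfl⟩ := Submodule.mem_span_singleton.1 hw
      have : y ∈ MulAction.stabilizer (GL (Fin 3) F) v := zpowers_le.2 (by
        rw [sub_mulVec, one_mulVec, sub_eq_zero] at hx; exact hx) hy
      rw [mulVec_smul, show y.1 *ᵥ v = v from this]
      exact hw) (mem_zpowers x)
  have h1 : specialLinear (Fin 2) F ≤ p2 S := sl2_le h.prime (B := B) (mem_map_of_mem _ ⟨hu, hS _ v1⟩)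
    (mem_map_of_mem _ ⟨(H.comap bd).mul_mem ((H.comap bd).mul_mem hn' hu) ((H.comap bd).inv_mem hn'),
      hS _ v2⟩) h.three (neg_ne_zero.2 h.three) e e2
  have h2 : p3 K ≤ subspaceStabilizer (F ∙ v) := by
    rintro _ ⟨k, hk, rfl⟩
    obtain ⟨s, hs, es⟩ := h1 (Mit.mem_specialLinear.2 (h.det2 hk))
    obtain ⟨a, ha, -⟩ := h.eq_of_snd hB (c := s⁻¹ * k)
      ((H.comap bd).mul_mem ((H.comap bd).inv_mem hs.1) (h.K_le hk)) (inv_mul_eq_one.2 es)
    change s.1⁻¹ * k.1 = _ at ha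
    rw [inv_mul_eq_iff_eq_mul] at ha
    change k.1 ∈ _
    rw [ha]
    refine mul_mem hs.2 (mem_subspaceStabilizer_iff.2 fun w => ?_)
    rw [coe_sc, smul_mulVec, one_mulVec, Submodule.smul_mem_iff _ a.ne_zero]
  rcases irred_iff.1 (irred_of_span (env_eq_top_iff.1 h.env3)) _ (le_subspaceStabilizer_iff.1 h2) with
    h3 | h3
  · exact v0 (Submodule.span_singleton_eq_bot.1 h3)
  · have := finrank_span_singleton (K := F) v0
    rw [h3] at this
    simp at this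

/-- the relation between the three characters -/
theorem rel {W d : P32 F} (hW : bd W ∈ H) (hW2 : W * W = 1) {e : Fin 3 → F} {f₁ f₂ : Fin 2 → F}
    (he : e ≠ 0) (h1 : f₁ ≠ 0) (h2 : f₂ ≠ 0) (e0 : W.1.1 *ᵥ e = (-1 : F) • e)
    (e1 : W.2.1 *ᵥ f₁ = (1 : F) • f₁) (e2 : W.2.1 *ᵥ f₂ = (-1 : F) • f₂) (hd : bd d ∈ H)
    (hc : d * W = W * d) {a b : F} (ha : d.2.1 *ᵥ f₁ = a • f₁) (hb : d.2.1 *ᵥ f₂ = b • f₂) :
    ∃ α : F, d.1.1 *ᵥ e = α • e ∧ α ^ 3 * (a * b) = 1 := by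
  have := h.charP
  have := Fact.mk h.prime
  obtain ⟨B, b1, b2⟩ := exists_basis2 h.two h1 h2 e1 e2
  have b3 : d.2.1 * B.1 = B.1 * !![a, 0; 0, b] := matrix_ext_mulVec fun c => by
    simp only [← mulVec_mulVec, b1, mulVec_add, mulVec_smul, ha, hb]
    simp [mulVec, dotProduct, smul_smul, mul_comm]
  have dt : ∀ {x : GL (Fin 2) F} {a b : F}, x.1 * B.1 = B.1 * !![a, 0; 0, b] → x.1.det = a * b :=
    fun {x a b} e => by
      have := congrArg Matrix.det e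
      rw [det_mul, det_mul, mul_comm] at this
      simpa using mul_left_cancel₀ (GeneralLinearGroup.det_ne_zero B) this
  have b0 : b ≠ 0 := by
    rintro rfl
    simpa using (dt b3).symm.trans_ne (GeneralLinearGroup.det_ne_zero d.2)
  obtain ⟨u, hu, hp, eu⟩ := h.exists_unip hB B
  obtain ⟨k, hk⟩ := h.exists_cast (a / b)
  obtain ⟨k', hk'⟩ := h.exists_cast (-1)
  obtain ⟨α, r1, r2⟩ := j3 h.two (U := u.1.1) (W := W.1.1) (D := d.1.1) (congrArg Units.val hp)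
    (h.sq_ne hB hu eu) hk' (h.conj_unip hB hu hp eu hW b2 (by simp [hk']))
    (congrArg (fun c : P32 F => c.1.1) hW2)
    (by have := h.det_C hW; rw [dt b2] at this; linear_combination -this) he (by simpa using e0)
    (h.conj_unip hB hu hp eu hd b3 (by rw [hk]; field_simp))
    (congrArg (fun c : P32 F => c.1.1) hc)
  exact ⟨α, r1, by rw [← r2, ← dt b3, h.det_C hd]⟩

end B

variable {g : GL I5 F} (hg : g ∈ H) {W : P32 F} (hW : bd W = g * zz * g⁻¹)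
  {e : Fin 3 → F} {f₁ f₂ : Fin 2 → F} (he : e ≠ 0) (h1 : f₁ ≠ 0) (h2 : f₂ ≠ 0)
  (e0 : W.1.1 *ᵥ e = (-1 : F) • e) (e1 : W.2.1 *ᵥ f₁ = (1 : F) • f₁) (e2 : W.2.1 *ᵥ f₂ = (-1 : F) • f₂)

omit h in
theorem eig3 {c : P32 F} {e : Fin 3 → F} {a : F} (h : c.1.1 *ᵥ e = a • e) :
    (bd c).1 *ᵥ Sum.elim e (0 : Fin 2 → F) = a • Sum.elim e (0 : Fin 2 → F) := by
  rw [bd_mulVec, elim_smul, h]; simp

omit h in
theorem eig2 {c : P32 F} {e : Fin 2 → F} {a : F} (h : c.2.1 *ᵥ e = a • e) :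
    (bd c).1 *ᵥ Sum.elim (0 : Fin 3 → F) e = a • Sum.elim (0 : Fin 3 → F) e := by
  rw [bd_mulVec, elim_smul, h]; simp

omit h in
theorem ne3 {e : Fin 3 → F} (h : e ≠ 0) : (Sum.elim e (0 : Fin 2 → F) : I5 → F) ≠ 0 := fun h0 =>
  h (funext fun i => congrFun h0 (Sum.inl i))

omit h in
theorem ne2 {e : Fin 2 → F} (h : e ≠ 0) : (Sum.elim (0 : Fin 3 → F) e : I5 → F) ≠ 0 := fun h0 =>
  h (funext fun i => congrFun h0 (Sum.inr i))

include hW in
theorem tr2 {v : I5 → F} (h0 : v ≠ 0) (hv : (bd W).1 *ᵥ v = (-1 : F) • v) : ∃ w : Fin 2 → F, w ≠ 0 ∧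
    ∀ (x : GL I5 F) (c : P32 F) (a : F), bd c = g⁻¹ * x * g → x.1 *ᵥ v = a • v → c.2.1 *ᵥ w = a • w := by
  obtain ⟨w, hw⟩ := h.tr_neg hW hv
  refine ⟨w, fun e => inv_mulVec_ne h0 (by rw [hw, e]; simp), fun x c a hc hx => ?_⟩
  have := eig_conj (h := g) hx
  rw [← hc, hw, bd_mulVec, elim_smul] at this
  exact (elim_inj this).2

include hW in
theorem tr3 {v : I5 → F} (h0 : v ≠ 0) (hv : (bd W).1 *ᵥ v = (1 : F) • v) : ∃ w : Fin 3 → F, w ≠ 0 ∧
    ∀ (x : GL I5 F) (c : P32 F) (a : F), bd c = g⁻¹ * x * g → x.1 *ᵥ v = a • v → c.1.1 *ᵥ w = a • w := by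
  obtain ⟨w, hw⟩ := h.tr_pos hW hv
  refine ⟨w, fun e => inv_mulVec_ne h0 (by rw [hw, e]; simp), fun x c a hc hx => ?_⟩
  have := eig_conj (h := g) hx
  rw [← hc, hw, bd_mulVec, elim_smul] at this
  exact (elim_inj this).1

include hg hW he h1 h2 e0 e1 e2

theorem case_B (hB : specialLinear (Fin 2) F ≤ p2 (H.comap bd)) : False := by
  have hm := h.mem_W hg hW
  have hW2 := W_sq hW
  obtain ⟨t, t0, t6⟩ := h.six
  obtain ⟨B, b1, b2⟩ := exists_basis2 h.two h1 h2 e1 e2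
  obtain ⟨d, hd, ed⟩ := exists_sl2 B (A := !![t, 0; 0, t⁻¹]) (by simp [t0])
  obtain ⟨d, hd', rfl⟩ := hB hd
  change d.2.1 * _ = _ at ed
  have d1 : d.2.1 *ᵥ f₁ = t • f₁ := by
    have := congrArg (· *ᵥ ![1, 0]) ed
    simpa [← mulVec_mulVec, b1, mulVec, dotProduct] using this
  have d2 : d.2.1 *ᵥ f₂ = t⁻¹ • f₂ := by
    have := congrArg (· *ᵥ ![0, 1]) ed
    simpa [← mulVec_mulVec, b1, mulVec, dotProduct] using this
  have c2 : d.2 * W.2 = W.2 * d.2 := ext_basis (B := B) (by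
    rw [Units.val_mul, Units.val_mul, mul_assoc, mul_assoc, b2, ed, ← mul_assoc, ← mul_assoc, b2, ed,
      mul_assoc, mul_assoc]
    simp)
  have hc : d * W = W * d := by
    obtain ⟨c, hc, c3⟩ := h.eq_of_snd hB (c := d * W * d⁻¹ * W⁻¹) ((H.comap bd).mul_mem
      ((H.comap bd).mul_mem ((H.comap bd).mul_mem hd' hm) ((H.comap bd).inv_mem hd'))
      ((H.comap bd).inv_mem hm)) (by
        change d.2 * W.2 * d.2⁻¹ * W.2⁻¹ = 1
        rw [c2]; group)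
    change d.1 * W.1 * d.1⁻¹ * W.1⁻¹ = _ at hc
    rw [mul_inv_eq_iff_eq_mul] at hc
    have w2 : W.1 ^ 2 = 1 := by rw [pow_two]; exact congrArg Prod.fst hW2
    have h3 := congrArg (· ^ 2) hc
    simp only [conj_pow, w2] at h3
    rw [(commute_of_mem_scalars (sc_mem c) _).symm.mul_pow, w2, mul_one, mul_one, mul_inv_cancel,
      ← map_pow, eq_comm, ← map_one (sc (Fin 3))] at h3
    have h4 : c = 1 := by rw [← c3, pow_succ, sc_injective h3, one_mul]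
    rw [h4, map_one, one_mul, mul_inv_eq_iff_eq_mul] at hc
    exact Prod.ext hc c2
  obtain ⟨α, r1, r2⟩ := h.rel hB hm hW2 he h1 h2 e0 e1 e2 hd' hc d1 d2
  obtain ⟨W', hW'⟩ := h.tr_ex hW (bd_zz W).symm
  obtain ⟨d', hd''⟩ := h.tr_ex hW (x := bd d) (by rw [← map_mul, hc, map_mul])
  obtain ⟨e', a1, a2⟩ := h.tr3 hW (ne2 h1) (eig2 e1)
  obtain ⟨f₁', a3, a4⟩ := h.tr2 hW (ne3 he) (eig3 e0)
  obtain ⟨f₂', a5, a6⟩ := h.tr2 hW (ne2 h2) (eig2 e2)
  have z2 : ∀ f : Fin 2 → F, (zz : GL I5 F).1 *ᵥ Sum.elim (0 : Fin 3 → F) f =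
      (-1 : F) • Sum.elim (0 : Fin 3 → F) f :=
    fun f => eig2 (c := ((1, -1) : P32 F)) (by simp [neg_mulVec])
  obtain ⟨β, s1, s2⟩ := h.rel hB (W := W') (d := d')
    (hW' ▸ H.mul_mem (H.mul_mem (H.inv_mem hg) h.z) hg)
    (W_sq (g := g⁻¹) (by rw [hW', inv_inv])) a1 a3 a5 (a2 _ _ _ hW' (z2 _))
    (a4 _ _ _ hW' (eig3 (c := ((1, -1) : P32 F)) (by simp))) (a6 _ _ _ hW' (z2 _))
    (hd'' ▸ H.mul_mem (H.mul_mem (H.inv_mem hg) hd') hg)
    (bd_injective (by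
      rw [map_mul, map_mul, hW', hd'']
      calc _ = g⁻¹ * (bd d * zz) * g := by group
        _ = _ := by rw [bd_zz]; group))
    (a4 _ _ _ hd'' (eig3 r1)) (a6 _ _ _ hd'' (eig2 d2))
  obtain rfl : t = β := eig_unique a1 ((a2 _ _ _ hd'' (eig2 d1)).symm.trans s1)
  field_simp at r2 s2
  exact t6 (by linear_combination (t ^ 4 * α ^ 2 + t ^ 2 * α + 1) * s2 - t ^ 6 * r2)

theorem case_A (hA : p2 (H.comap bd) ≤ p2 K ⊔ scalars (Fin 2) F)
    (h4 : ∀ x ∈ p2 (H.comap bd), ∀ (v w : Fin 2 → F) (a b : F), v ≠ 0 → w ≠ 0 →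
      x.1 *ᵥ v = a • v → x.1 *ᵥ w = b • w → b ^ 2 ≠ -a ^ 2) : False := by
  have hm := h.mem_W hg hW
  suffices ∃ (x : P32 F) (a b : F), bd x ∈ H ∧ x * W = W * x ∧ x.1.1 *ᵥ e = a • e ∧
      x.2.1 *ᵥ f₂ = b • f₂ ∧ b ^ 2 = -a ^ 2 by
    obtain ⟨x, a, b, hx, hc, x1, x2, hab⟩ := this
    obtain ⟨x', hx'⟩ := h.tr_ex hW (x := bd x) (by rw [← map_mul, hc, map_mul])
    obtain ⟨f₁', a3, a4⟩ := h.tr2 hW (ne3 he) (eig3 e0)
    obtain ⟨f₂', a5, a6⟩ := h.tr2 hW (ne2 h2) (eig2 e2)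
    exact h4 x'.2 (mem_map_of_mem _ (show bd x' ∈ H from
      hx' ▸ H.mul_mem (H.mul_mem (H.inv_mem hg) hx) hg)) _ _ _ _ a3 a5
      (a4 _ _ _ hx' (eig3 x1)) (a6 _ _ _ hx' (eig2 x2)) hab
  obtain ⟨_, ⟨k, hk, rfl⟩, s, hs, es⟩ := mem_sup_scalars.1 (hA (mem_map_of_mem _ hm))
  obtain ⟨l, rfl⟩ := mem_scalars_iff_sc.1 hs
  change k.2 * _ = W.2 at es
  obtain ⟨B, -, b2⟩ := exists_basis2 h.two h1 h2 e1 e2
  have hl : (l : F) ^ 2 = -1 := by
    have := congrArg Matrix.det b2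
    rw [det_mul, det_mul, mul_comm, ← es] at this
    simpa [coe_sc, h.det2 hk] using mul_left_cancel₀ (GeneralLinearGroup.det_ne_zero B) this
  by_cases hs : X3 H ≤ scalars (Fin 3) F
  · have hc : bd (k⁻¹ * W) ∈ H := (H.comap bd).mul_mem ((H.comap bd).inv_mem (h.K_le hk)) hm
    have c2 : (k⁻¹ * W).2 = sc _ l := inv_mul_eq_iff_eq_mul.2 es.symm
    obtain ⟨m, c1⟩ := mem_scalars_iff_sc.1 (h.scalar_of hs hc (c2 ▸ sc_mem l))
    have hd := h.det_C hc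
    rw [← c1, c2] at hd
    simp only [coe_sc, det_smul, Fintype.card_fin, det_one, mul_one] at hd
    refine ⟨(k⁻¹ * W) ^ 3, m ^ 3, l ^ 3, (H.comap bd).pow_mem hc 3, Prod.ext ?_ ?_, ?_, ?_, ?_⟩
    · exact mul_comm_of_mem_scalars (pow_mem (c1 ▸ sc_mem m) 3) _
    · exact mul_comm_of_mem_scalars (pow_mem (c2 ▸ sc_mem l) 3) _
    · rw [Prod.pow_fst, ← c1, ← map_pow, coe_sc]; simp [smul_mulVec]
    · rw [Prod.pow_snd, c2, ← map_pow, coe_sc]; simp [smul_mulVec]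
    · rw [hl] at hd
      linear_combination (l ^ 4 - l ^ 2 + 1) * hl - (m ^ 3 - 1) * hd
  · refine ⟨(1, k.2), 1, l, h.split hs (mem_map_of_mem _ hk), Prod.ext (by simp) ?_, by simp, ?_,
      by simpa using hl⟩
    · change k.2 * W.2 = W.2 * k.2
      rw [← es, mul_assoc, mul_comm_of_mem_scalars (sc_mem l)]
    · rw [← es, Units.val_mul, coe_sc, Matrix.mul_smul, mul_one, smul_mulVec] at e2
      refine smul_right_injective _ l.ne_zero ?_
      simp only [e2, smul_smul, ← pow_two, hl]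

omit he h1 h2 e0 e1 e2 hW in
/-- the involution `zz` is isolated -/
theorem iso (hc : Commute zz (g * zz * g⁻¹)) : g * zz * g⁻¹ = zz := by
  obtain ⟨W, hW⟩ := exists_bd h.two hc.symm
  by_cases hn : W.2 = -1
  · rw [← hW, h.case_neg hg hW hn]
  exfalso
  have hW2 := W_sq hW
  obtain ⟨f₁, h1, e1⟩ := exists_eig (W := W.2.1) (congrArg (fun c : P32 F => c.2.1) hW2) (ε := 1)
    (by simp) fun e => hn (Units.ext (by simpa using e))
  obtain ⟨f₂, h2, e2⟩ := exists_eig (W := W.2.1) (congrArg (fun c : P32 F => c.2.1) hW2) (ε := -1)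
    (by simp) fun e => h.case_one hg hW (Units.ext (by simpa using e))
  obtain ⟨e, he, e0⟩ := exists_eig (W := W.1.1) (congrArg (fun c : P32 F => c.1.1) hW2) (ε := -1)
    (by simp) fun e => by
      obtain ⟨B, -, b2⟩ := exists_basis2 h.two h1 h2 e1 e2
      have := congrArg Matrix.det b2
      rw [det_mul, det_mul, mul_comm] at this
      have h3 := mul_left_cancel₀ (GeneralLinearGroup.det_ne_zero B) this
      have h4 := h.det_C (h.mem_W hg hW)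
      rw [e, h3] at h4
      simp at h4
      exact h.two (by linear_combination -h4)
  rcases dich2 h.prime h.five (map_mono h.K_le) h.perf2 h.ne_bot2 with ⟨hA, h4⟩ | hB
  exacts [h.case_A hg hW he h1 h2 e0 e1 e2 hA h4, h.case_B hg hW he h1 h2 e0 e1 e2 hB]

end Ctx

end CfsgLib.Wl5
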