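import Mathlib
import Cfsg.Agent.Lib.Wl5.IsoB
import Cfsg.Agent.Lib.Wl5.Tv
import Cfsg.Agent.Lib.Wl5.Weil
import Cfsg.Agent.Lib.ZStar.Main
import Cfsg.Agent.Lib.FT.OddOrder
import Cfsg.Agent.Lib.ClMax.Basic

/-! The normaliser of `5^(1+2)` is maximal in `SL₅(p)`.  See `plans/WL5.md`. -/

set_option autoImplicit false

namespace CfsgLib.Wl5

open Matrix Subgroup Cfsg Cfsg.Geo CfsgLib.Asch
open scoped commutatorElement

variable {F : Type*} [Field F] [Fintype F]

omit [Fintype F] in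
theorem zz_not_scalar (h2 : (2 : F) ≠ 0) : (zz : GL I5 F) ∉ scalars I5 F := fun hs => by
  obtain ⟨a, ha⟩ := (mem_scalars_iff _).1 hs
  have h1 := congrFun (congrFun ha (Sum.inl 0)) (Sum.inl 0)
  have h3 := congrFun (congrFun ha (Sum.inr 0)) (Sum.inr 0)
  simp [coe_zz] at h1 h3
  exact h2 (by linear_combination h1 - h3)

theorem exists_six (h : 8 ≤ Fintype.card F) : ∃ t : F, t ≠ 0 ∧ t ^ 6 ≠ 1 := by
  classical
  by_contra hc
  push Not at hc
  obtain ⟨g, hg⟩ := IsCyclic.exists_ofOrder_eq_natCard (α := Fˣ)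
  have h1 : orderOf g ∣ 6 := orderOf_dvd_of_pow_eq_one (Units.ext (by simpa using hc g g.ne_zero))
  rw [hg, Nat.card_eq_fintype_card, Fintype.card_units] at h1
  have := Nat.le_of_dvd (by norm_num) h1
  omega

theorem Mdl.max {R : Subgroup (GL I5 F)} {K : Subgroup (P32 F)} (h : Mdl R K)
    (hp : (Fintype.card F).Prime) (h8 : 8 ≤ Fintype.card F) (h2 : (2 : F) ≠ 0) :
    IsMaximalIn (specialLinear I5 F) (NS R) := by
  refine ClMax.isMaximalIn_of inf_le_right (h.proper.imp fun g hg => ⟨hg.1, fun e => hg.2 e.1⟩)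
    fun H h1 h3 g hg hg' => ?_
  have hE : ∀ N : Subgroup (GL I5 F), Nrm H N → N ≤ scalars I5 F ∨ env N = ⊤ := fun N hN =>
    (h.stab _ (hN.mono h1).stab_env).imp_left env_eq_bot_iff.1
  by_cases ht : NoT H
  swap
  · exact sl_le_of_tv hp h2 (by decide) (fun N _ => hE N) ht
  exfalso
  have c : Ctx H K := ⟨hp, by omega, exists_six h8, h3, h1 h.zn, fun k hk => h1 (h.nrm k hk), h.perfect,
    h.env3, h.env2, ht⟩
  have : Fact (Nat.Prime 2) := ⟨Nat.prime_two⟩
  have hz := ZStar.zstar (G := H) (t := ⟨zz, c.z⟩) ⟨orderOf_eq_prime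
    (Subtype.ext ((pow_two _).trans zz_mul_zz)) fun e => c.zz_ne (congrArg Subtype.val e),
    fun g hc => Subtype.ext (c.iso g.2 (congrArg Subtype.val hc))⟩
  have hn : Nrm H ((pPrimeCore 2 H).map H.subtype) := by
    rintro x hx _ ⟨y, hy, rfl⟩
    exact ⟨_, (inferInstance : (pPrimeCore 2 H).Normal).conj_mem y hy ⟨x, hx⟩, rfl⟩
  by_cases hs : (pPrimeCore 2 H).map H.subtype ≤ scalars I5 F
  · refine zz_not_scalar h2 ((hE H (Nrm.self H)).elim (fun e => e c.z) fun e =>
      mem_scalars_of_comm_env e fun x hx => ?_)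
    have h4 : zz * x * zz⁻¹ * x⁻¹ ∈ scalars I5 F := hs ⟨_, hz ⟨x, hx⟩, rfl⟩
    have h5 : (zz : GL I5 F)⁻¹ = zz := inv_eq_of_mul_eq_one_right zz_mul_zz
    have h6 : x * zz * x⁻¹ = zz * (zz * x * zz⁻¹ * x⁻¹) := by
      rw [h5, ← mul_assoc, ← mul_assoc, ← mul_assoc, zz_mul_zz, one_mul]
    have := c.iso hx (h6 ▸ (Commute.refl _).mul_right (mul_comm_of_mem_scalars h4 _).symm)
    exact (mul_inv_eq_iff_eq_mul.1 this).symm
  · obtain ⟨-, L, -, -, l1, l2, l3, -, l4⟩ := exists_elementary_mod_scalars hn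
      (FT.odd_subgroup_solvable (by
        rw [card_map_of_injective H.subtype_injective]; exact Core.odd_card_oddCore H)) hs
    exact hg' ⟨h.fin L l1 (l2.mono h1) l3 l4 (nrm_iff_le_normalizer.1 l2 hg), h3 hg⟩

theorem sl5_weil {p : ℕ} (hp : p.Prime) (hc : Fintype.card F = p) (h5 : p % 5 = 1)
    {R : Subgroup (GL (Fin 5) F)} (hR : IsLinearSymplecticTypeData 5 R) :
    IsMaximalIn (specialLinear (Fin 5) F) (subgroupNormalizer R ⊓ specialLinear (Fin 5) F) := by
  have h8 : 8 ≤ p := by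
    by_contra h
    have := hp.two_le
    obtain rfl : p = 6 := by omega
    exact absurd hp (by decide)
  have h2 : (2 : F) ≠ 0 := fun h2 => by
    have := FiniteField.even_card_iff_char_two.1
      (CharP.ringChar_of_prime_eq_zero Nat.prime_two (show ((2 : ℕ) : F) = 0 by exact_mod_cast h2))
    have := hp.eq_two_or_odd
    omega
  obtain ⟨Φ, K, h1, h3⟩ := exists_mdl h2 hR.symplecticType hR.absIrred (by
    obtain ⟨_, _, -, -, h | h | h⟩ := hR.field
    exacts [h.2.2.1, absurd h.1 (by decide), absurd h.1 (by decide)])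
  have := ClMax.isMaximalIn_comap Φ (h3.max (hc ▸ hp) (hc ▸ h8) h2)
  have e : (specialLinear I5 F).comap Φ.toMonoidHom = specialLinear (Fin 5) F := ext h1
  rwa [comap_inf, e, comap_normalizer_eq_of_surjective _ Φ.surjective,
    comap_map_eq_self_of_injective Φ.injective] at this

end CfsgLib.Wl5
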