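import Mathlib
import Cfsg.Agent.Lib.Low4.SLMono4

/-! The monomial group is maximal in `SL₅(q)`, `q ≥ 5`.  See `plans/WL5.md`. -/

set_option autoImplicit false
set_option linter.unusedSectionVars false

namespace CfsgLib.Wl5

open Cfsg Cfsg.Geo CfsgLib.ClMax CfsgLib.ClMax.Mono CfsgLib.Low4 Module

variable {F : Type*} [Field F]

namespace Mono5

variable {V : Type*} [AddCommGroup V] [Module F V] {τ : Type*} [Fintype τ] [DecidableEq τ] {b : τ → V}
  {ε : τ → Dual F V} {X : Subgroup (V ≃ₗ[F] V)}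

theorem exists_ne_four (h : Fintype.card τ = 5) (a b c d : τ) :
    ∃ x, x ≠ a ∧ x ≠ b ∧ x ≠ c ∧ x ≠ d ∧ True := by
  obtain ⟨k, -, hk⟩ := Finset.exists_mem_notMem_of_card_lt_card (s := {a, b, c, d})
    (t := Finset.univ) (by
      have := Finset.card_le_four (a := a) (b := b) (c := c) (d := d)
      rw [Finset.card_univ]; omega)
  exact ⟨k, by simpa [not_or] using hk⟩

variable [FiniteDimensional F V] (h : Ov4 b ε X) (h5 : Fintype.card τ = 5)
include h h5

theorem supp_two (hR : ¬ Root b ε X) {g : V ≃ₗ[F] V} (hg : g ∈ X) {i k a a' j : τ} (haa : a ≠ a')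
    (h1 : ε a (g (b i)) = 0) (h2 : ε a' (g (b i)) = 0) (hk : ε a (g (b k)) ≠ 0) (ja : j ≠ a)
    (ja' : j ≠ a') : ε j (g (b k)) = 0 := by
  by_contra hj
  have := h.five.roots (α := ε a (g (b k)) * ε k (g.symm (b a)))
    (β := 1 - ε a (g (b k)) * ε k (g.symm (b a)) - ε a' (g (b k)) * ε k (g.symm (b a')))
    (γ := ε a' (g (b k)) * ε k (g.symm (b a'))) fun c c0 c1 => by
      obtain ⟨d, hd, hd'⟩ := h.dg haa c0
      obtain ⟨l, x, hl⟩ := h.mono_of_col hR (X.mul_mem (X.mul_mem (X.inv_mem hg) hd) hg) (i := i)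
        (j := i) (c := 1) (by simp [hd', h1, h2]) k
      have hlk : k ≠ l := by
        rintro rfl
        have e : d (g (b k)) = x • g (b k) := by
          rw [← map_smul, ← hl]; exact (apply_inv_apply g _).symm
        have e1 := congrArg (ε j) e
        have e2 := congrArg (ε a) e
        simp only [hd', map_add, map_smul, h.ne ja, h.ne ja', h.self, h.ne haa, smul_eq_mul] at e1 e2
        have e3 : x = 1 := mul_right_cancel₀ hj (by linear_combination -e1)
        exact c1 (mul_right_cancel₀ hk (by rw [e3] at e2; linear_combination e2))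
      have e := congrArg (ε k) hl
      simp only [LinearEquiv.mul_apply, hd', map_add, map_smul, h.ne hlk, LinearEquiv.coe_inv,
        LinearEquiv.symm_apply_apply, h.self, smul_eq_mul] at e
      field_simp at e
      linear_combination e
  simp [this.1, this.2.2] at this

theorem one_zero (hR : ¬ Root b ε X) {g : V ≃ₗ[F] V} (hg : g ∈ X) (hm : ¬ IsMono b g) {i a a' : τ}
    (haa : a ≠ a') (h1 : ε a (g (b i)) = 0) (h2 : ε a' (g (b i)) = 0) : False := by
  have row : ∀ a, ∃ k, ε a (g (b k)) ≠ 0 := fun a =>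
    h.exists_ne (φ := ε a ∘ₗ (g : V →ₗ[F] V)) fun h0 => by
      simpa [h.self] using LinearMap.congr_fun h0 (g.symm (b a))
  obtain ⟨k, hk⟩ := row a
  have h3 := fun j => supp_two h h5 hR hg haa h1 h2 hk (j := j)
  obtain ⟨c, ca, ca', -⟩ := exists_ne_four h5 a a' a a
  obtain ⟨c', ca2, ca2', cc, -⟩ := exists_ne_four h5 a a' c a
  obtain ⟨c'', ca3, ca3', cc', cc'', -⟩ := exists_ne_four h5 a a' c c'
  obtain ⟨l, hl⟩ := row c
  refine hm (h.mono_of_col hR hg (h.eq_smul (x := g (b l)) (j := c) fun j hj => ?_))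
  by_cases hj' : j = c'
  · exact supp_two h h5 hR hg cc'.symm (h3 c ca ca') (h3 c'' ca3 ca3') hl hj (hj' ▸ cc''.symm)
  · exact supp_two h h5 hR hg cc.symm (h3 c ca ca') (h3 c' ca2 ca2') hl hj hj'

theorem not_mono_symm (hR : ¬ Root b ε X) {g : V ≃ₗ[F] V} (hg : g ∈ X) (hm : ¬ IsMono b g) :
    ¬ IsMono b g⁻¹ := fun hm' => by
  obtain ⟨i, -⟩ := not_forall.1 hm
  obtain ⟨j, c, hc⟩ := hm' i
  have e : c • g (b j) = b i := by rw [← map_smul, ← hc, apply_inv_apply]
  have c0 : c ≠ 0 := by rintro rfl; simpa [← e] using h.self i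
  exact hm (h.mono_of_col hR hg (i := j) (j := i) (c := c⁻¹) (by rw [← e, inv_smul_smul₀ c0]))

theorem row (hR : ¬ Root b ε X) {g : V ≃ₗ[F] V} (hg : g ∈ X) (hm : ¬ IsMono b g) {c m : τ}
    (h0 : ∀ x, x ≠ m → ε c (g.symm (b x)) = 0) : False := by
  have e0 : ∀ v, ε c (g.symm v) = ε c (g.symm (b m)) * ε m v :=
    h.ext' (φ := ε c ∘ₗ (g.symm : V →ₗ[F] V)) (ψ := ε c (g.symm (b m)) • ε m) fun x => by
      by_cases hx : x = m
      · simp [hx, h.self]
      · simp [h0 x hx, h.ne (Ne.symm hx)]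
  have l0 : ε c (g.symm (b m)) ≠ 0 := fun e => by simpa [e, h.self] using e0 (g (b c))
  have z : ∀ x, x ≠ c → ε m (g (b x)) = 0 := fun x hx => by simpa [l0, h.ne hx.symm] using e0 (g (b x))
  have n1 : ∀ x, x ≠ c → ∀ j, j ≠ m → ε j (g (b x)) ≠ 0 := fun x hx j hj h1 =>
    one_zero h h5 hR hg hm hj h1 (z x hx)
  have n2 : ∀ x, x ≠ m → ∀ j, j ≠ c → ε j (g.symm (b x)) ≠ 0 := fun x hx j hj h1 =>
    one_zero h h5 hR (X.inv_mem hg) (not_mono_symm h h5 hR hg hm) hj h1 (h0 x hx)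
  obtain ⟨i, ic, -⟩ := exists_ne_four h5 c c c c
  obtain ⟨i', ic', ii, -⟩ := exists_ne_four h5 c i c c
  obtain ⟨r, rm, -⟩ := exists_ne_four h5 m m m m
  have hA := mul_ne_zero (n2 r rm i ic) (n1 i ic r rm)
  have hB := mul_ne_zero (n2 r rm i' ic') (n1 i' ic' r rm)
  have K : ∀ μ : F, μ ≠ 0 → μ ≠ 1 + (ε i' (g.symm (b r)) * ε r (g (b i')) - 1) /
      (ε i (g.symm (b r)) * ε r (g (b i))) → ∃ p, ∀ j, j ≠ p → j ≠ r → (μ - 1) * ε i (g.symm (b r)) *
        (ε j (g (b i)) * ε r (g (b i')) - ε r (g (b i)) * ε j (g (b i'))) = ε j (g (b i')) := fun μ m0 m1 => by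
    obtain ⟨ν, hν⟩ : ∃ ν, 1 + (μ - 1) * ε i (g.symm (b r)) * ε r (g (b i)) +
        (ν - 1) * ε i' (g.symm (b r)) * ε r (g (b i')) = 0 :=
      ⟨1 - (1 + (μ - 1) * ε i (g.symm (b r)) * ε r (g (b i))) / (ε i' (g.symm (b r)) * ε r (g (b i'))), by
        rw [sub_sub_cancel_left, mul_assoc (-_), neg_mul, div_mul_cancel₀ _ hB, add_neg_cancel]⟩
    have n0 : ν ≠ 0 := fun e => m1 (by
      rw [← sub_eq_iff_eq_add', eq_div_iff hA]; rw [e] at hν; linear_combination hν)
    obtain ⟨d, hd, hd'⟩ := h.dg ic m0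
    obtain ⟨d', he, he'⟩ := h.dg ic' n0
    have e : ∀ j, ε j ((g * d * d' * g⁻¹) (b r)) = ε j (b r) + (μ - 1) * ε i (g.symm (b r)) * ε j (g (b i)) +
        (ν - 1) * ε i' (g.symm (b r)) * ε j (g (b i')) := fun j => by
      simp only [LinearEquiv.mul_apply, hd', he', map_add, map_smul, LinearEquiv.coe_inv, h0 r rm,
        h.ne ii.symm, h.ne ic'.symm, LinearEquiv.apply_symm_apply, smul_eq_mul, mul_zero, zero_smul, add_zero]
    obtain ⟨p, x, hp⟩ := not_not.1 (fun hy => one_zero h h5 hR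
      (X.mul_mem (X.mul_mem (X.mul_mem hg hd) he) (X.inv_mem hg)) hy (i := r) rm (by rw [e, h.self, hν])
      (by rw [e]; simp [h.ne rm.symm, z i ic, z i' ic'])) r
    refine ⟨p, fun j jp jr => ?_⟩
    have e1 := e j
    rw [hp, map_smul, h.ne jp, h.ne jr, smul_zero] at e1
    linear_combination -ε r (g (b i')) * e1 - ε j (g (b i')) * hν
  obtain ⟨μ, m0, m1, -⟩ := h.five 0 _ 0 0
  obtain ⟨μ', m0', m1', mm, -⟩ := h.five 0 _ μ 0
  obtain ⟨p, hp⟩ := K μ m0 m1
  obtain ⟨p', hp'⟩ := K μ' m0' m1'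
  obtain ⟨j, jp, jp', jr, jm, -⟩ := exists_ne_four h5 p p' r m
  exact mul_ne_zero (sub_ne_zero.2 mm) (n1 i' ic' j jm)
    (by linear_combination (μ - 1) * hp' j jp' jr - (μ' - 1) * hp j jp jr)

theorem no_zero (hR : ¬ Root b ε X) {g : V ≃ₗ[F] V} (hg : g ∈ X) (hm : ¬ IsMono b g) (m t : τ) :
    ε m (g (b t)) ≠ 0 := by
  intro h0
  have hx : ∀ k, k ≠ m → ε k (g (b t)) ≠ 0 := fun k hk h1 => one_zero h h5 hR hg hm hk h1 h0
  obtain ⟨k, km, -⟩ := exists_ne_four h5 m m m m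
  obtain ⟨l, lm, lk, -⟩ := exists_ne_four h5 m k m m
  obtain ⟨j, jm, jk, jl, -⟩ := exists_ne_four h5 m k l m
  have step : ∀ (w : V) (k : τ) (a : F), k ≠ m → ε m w = 0 → ε k w ≠ 0 → ε k w + a ≠ 0 →
      ∃ d ∈ X, d w = w + a • b k := fun w k a hk h1 h2 h3 => by
    obtain ⟨d, hd, hd'⟩ := h.dg hk (div_ne_zero h3 h2)
    exact ⟨d, hd, by rw [hd', h1, mul_zero, zero_smul, add_zero, sub_mul, div_mul_cancel₀ _ h2,
      one_mul, add_sub_cancel_left]⟩
  let P := Submodule.span F {g.symm (b k), g.symm (b l), g.symm (b j)}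
  -- a vector of `P` with two zeros and two non-zero entries gives a contradiction
  have main : ∀ δ ∈ P, ∀ a a' c c', a ≠ a' → a ≠ t → a' ≠ t → c ≠ c' → c ≠ t → c' ≠ t →
      ε a δ = 0 → ε a' δ = 0 → ε c δ ≠ 0 → ε c' δ = 0 := by
    intro δ hδ a a' c c' aa at' at'' cc ct ct' e1 e2 e3
    by_contra e4
    obtain ⟨α, β, γ, rfl⟩ := Submodule.mem_span_triple.1 hδ
    obtain ⟨ν, n0, n1, n2, n3⟩ := h.five 0 (-ε k (g (b t)) / α) (-ε l (g (b t)) / β)
      (-ε j (g (b t)) / γ)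
    have nz : ∀ x α : F, x ≠ 0 → ν ≠ -x / α → x + ν * α ≠ 0 := fun x α hx hn h' => by
      have : α ≠ 0 := by rintro rfl; simp [hx] at h'
      exact hn (by field_simp; linear_combination h')
    obtain ⟨d1, a1, b1⟩ := step (g (b t)) k (ν * α) km h0 (hx k km) (nz _ _ (hx k km) n1)
    obtain ⟨d2, a2, b2⟩ := step (g (b t) + (ν * α) • b k) l (ν * β) lm (by simp [h0, h.ne km.symm])
      (by simpa [h.ne lk] using hx l lm) (by simpa [h.ne lk] using nz _ _ (hx l lm) n2)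
    obtain ⟨d3, a3, b3⟩ := step (g (b t) + (ν * α) • b k + (ν * β) • b l) j (ν * γ) jm
      (by simp [h0, h.ne km.symm, h.ne lm.symm]) (by simpa [h.ne jk, h.ne jl] using hx j jm)
      (by simpa [h.ne jk, h.ne jl] using nz _ _ (hx j jm) n3)
    have e : (g⁻¹ * d3 * d2 * d1 * g) (b t) =
        b t + ν • (α • g.symm (b k) + β • g.symm (b l) + γ • g.symm (b j)) := by
      simp only [LinearEquiv.mul_apply, b1, b2, b3]
      simp [mul_smul, add_assoc]
    generalize α • g.symm (b k) + β • g.symm (b l) + γ • g.symm (b j) = δ at e e1 e2 e3 e4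
    refine one_zero h h5 hR (X.mul_mem (X.mul_mem (X.mul_mem (X.mul_mem (X.inv_mem hg) a3) a2) a1) hg)
      (fun hm' => ?_) (i := t) aa (by simp [e, e1, h.ne at']) (by simp [e, e2, h.ne at''])
    obtain ⟨s, x, hs⟩ := hm' t
    rw [e] at hs
    by_cases hc : c = s
    · simpa [h.ne ct', n0, e4, h.ne (hc ▸ cc.symm : c' ≠ s)] using congrArg (ε c') hs
    · simpa [h.ne ct, n0, e3, h.ne hc] using congrArg (ε c) hs
  have ex : ∀ a a', a ≠ a' → a ≠ t → a' ≠ t → ∃ δ ∈ P, ∃ s, s ≠ a ∧ s ≠ t ∧ ε s δ = 1 ∧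
      ∀ c, c ≠ s → c ≠ t → ε c δ = 0 := fun a a' aa at' at'' => by
    let T : (F × F × F) →ₗ[F] V := (LinearMap.toSpanSingleton F V (g.symm (b k))).coprod
      ((LinearMap.toSpanSingleton F V (g.symm (b l))).coprod
        (LinearMap.toSpanSingleton F V (g.symm (b j))))
    obtain ⟨⟨α, β, γ⟩, hz, hz0⟩ := Submodule.exists_mem_ne_zero_of_ne_bot
      (LinearMap.ker_ne_bot_of_finrank_lt (f := ((ε a).prod (ε a')) ∘ₗ T) (by simp))
    obtain ⟨δ, hδ⟩ : ∃ δ, δ = α • g.symm (b k) + β • g.symm (b l) + γ • g.symm (b j) := ⟨_, rfl⟩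
    have e : ε a δ = 0 ∧ ε a' δ = 0 := by simpa [T, hδ, add_assoc] using hz
    have hP : δ ∈ P := Submodule.mem_span_triple.2 ⟨α, β, γ, hδ.symm⟩
    obtain ⟨s, st, hs⟩ : ∃ s, s ≠ t ∧ ε s δ ≠ 0 := by
      by_contra hc
      push Not at hc
      have e1 : ε t δ • g (b t) = α • b k + β • b l + γ • b j := by
        rw [← map_smul, ← h.eq_smul hc, hδ]; simp
      obtain ⟨i, im, ik, il, ij, -⟩ := exists_ne_four h5 m k l j
      have e2 : ε t δ = 0 := by
        simpa [h.ne ik, h.ne il, h.ne ij, hx i im] using congrArg (ε i) e1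
      rw [e2, zero_smul] at e1
      have e3 := congrArg (ε k) e1
      have e4 := congrArg (ε l) e1
      have e5 := congrArg (ε j) e1
      simp [h.self, h.ne lk, h.ne jk, h.ne jl, h.ne lk.symm, h.ne jk.symm, h.ne jl.symm] at e3 e4 e5
      exact hz0 (by simp [← e3, ← e4, ← e5])
    exact ⟨(ε s δ)⁻¹ • δ, P.smul_mem _ hP, s, fun h' => hs (h' ▸ e.1), st, by simp [hs],
      fun c cs ct => by simp [main δ hP a a' s c aa at' at'' cs.symm st ct e.1 e.2 hs]⟩
  obtain ⟨a, at', -⟩ := exists_ne_four h5 t t t t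
  obtain ⟨a', at'', aa, -⟩ := exists_ne_four h5 t a t t
  obtain ⟨δ, hδ, s, -, st, e1, e2⟩ := ex a a' aa.symm at' at''
  obtain ⟨a, at', as, -⟩ := exists_ne_four h5 t s t t
  obtain ⟨δ', hδ', s', ss, st', e3, e4⟩ := ex s a as.symm st at'
  have key : ∀ u ∈ P, ∀ c c', c ≠ c' → c ≠ t → c' ≠ t → c ≠ s → c' ≠ s → c ≠ s' → c' ≠ s' →
      ε c u ≠ 0 → ε c' u = 0 := fun u hu c c' cc ct ct' cs cs' cs1 cs2 hc => by
    simpa [e2 c' cs' ct', e4 c' cs2 ct'] using main (u - ε s u • δ - ε s' u • δ')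
      (P.sub_mem (P.sub_mem hu (P.smul_mem _ hδ)) (P.smul_mem _ hδ')) s s' c c' ss.symm st st' cc ct
      ct' (by simp [e1, e4 s ss.symm st]) (by simp [e3, e2 s' ss st'])
      (by simpa [e2 c cs ct, e4 c cs1 ct] using hc)
  have Z := fun x a a' => one_zero h h5 hR (X.inv_mem hg) (not_mono_symm h h5 hR hg hm) (i := x) (a := a)
    (a' := a')
  have fin : ∀ c c', c ≠ c' → c ≠ t → c' ≠ t → c ≠ s → c' ≠ s → c ≠ s' → c' ≠ s' →
      ε c (g.symm (b k)) = 0 → False := fun c c' cc ct ct' cs cs' cs1 cs2 hc => by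
    have pk : g.symm (b k) ∈ P := Submodule.subset_span (by simp)
    have z : ∀ x, g.symm (b x) ∈ P → ε c (g.symm (b x)) = 0 := fun x hx => by
      by_contra h1
      exact Z k c c' cc hc (by
        simpa [key _ hx c c' cc ct ct' cs cs' cs1 cs2 h1] using
          key _ (P.add_mem pk hx) c c' cc ct ct' cs cs' cs1 cs2 (by simpa [hc] using h1))
    obtain ⟨i, im, ik, il, ij, -⟩ := exists_ne_four h5 m k l j
    have z' : ∀ x, x ≠ m → x ≠ i → ε c (g.symm (b x)) = 0 := fun x xm xi => by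
      by_contra h1
      have xk : x ≠ k := fun e => h1 (e ▸ hc)
      have xl : x ≠ l := fun e => h1 (z x (Submodule.subset_span (by simp [e])))
      have xj : x ≠ j := fun e => h1 (z x (Submodule.subset_span (by simp [e])))
      have := Finset.card_le_univ ({x, i, j, l, k, m} : Finset τ)
      simp [Finset.card_insert_of_notMem, *] at this
    refine row h h5 hR hg hm (c := c) (m := m) fun x xm => ?_
    by_cases xi : x = i
    · have e := h.ne (b := b) ct
      rw [← g.symm_apply_apply (b t), ← h.sum (g (b t)), map_sum, map_sum, Finset.sum_eq_single i (fun y _ hy => by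
        by_cases ym : y = m
        · simp [ym, h0]
        · simp [z' y ym hy]) (by simp)] at e
      simpa [xi, hx i im] using e
    · exact z' x xm xi
  obtain ⟨c1, t1, s1, s1', -⟩ := exists_ne_four h5 t s s' t
  obtain ⟨c2, t2, s2, s2', c21, -⟩ := exists_ne_four h5 t s s' c1
  by_cases hc : ε c1 (g.symm (b k)) = 0
  · exact fin c1 c2 c21.symm t1 t2 s1 s2 s1' s2' hc
  · exact fin c2 c1 c21 t2 t1 s2 s1 s2' s1'
      (key _ (Submodule.subset_span (by simp)) c1 c2 c21.symm t1 t2 s1 s2 s1' s2' hc)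

theorem root {g : V ≃ₗ[F] V} (hg : g ∈ X) (hm : ¬ IsMono b g) : Root b ε X := by
  by_contra hR
  have hu := no_zero h h5 hR hg hm
  have hv : ∀ m t, ε m (g.symm (b t)) ≠ 0 :=
    no_zero h h5 hR (X.inv_mem hg) (not_mono_symm h h5 hR hg hm)
  obtain ⟨k, -⟩ := not_forall.1 hm
  obtain ⟨l, lk, -⟩ := exists_ne_four h5 k k k k
  obtain ⟨t, ht⟩ : ∃ t, ε l (g.symm (b t)) * ε k (g.symm (b k)) ≠
      ε l (g.symm (b k)) * ε k (g.symm (b t)) := by
    by_contra hc
    push Not at hc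
    have := h.ext' (φ := ε k (g.symm (b k)) • ε l ∘ₗ (g.symm : V →ₗ[F] V))
      (ψ := ε l (g.symm (b k)) • ε k ∘ₗ (g.symm : V →ₗ[F] V))
      (fun i => by simpa [mul_comm] using hc i) (g (b l))
    simp [h.self, h.ne lk.symm, hv] at this
  obtain ⟨a, ak, at', -⟩ := exists_ne_four h5 k t k k
  obtain ⟨s, sa, hs⟩ : ∃ s, a ≠ s ∧ ε l (g.symm (b s)) * ε a (g (b l)) ≠
      ε k (g.symm (b s)) * ε a (g (b k)) := by
    by_contra hc
    push Not at hc
    exact ht (mul_right_cancel₀ (hu a l) (by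
      linear_combination ε k (g.symm (b k)) * hc t at' - ε k (g.symm (b t)) * hc k ak))
  have hA := mul_ne_zero (hv k s) (hu a k)
  have hB := mul_ne_zero (hv l s) (hu a l)
  have c0 := div_ne_zero hB hA
  have c1 := (div_eq_one_iff_eq hA).not.2 hs
  obtain ⟨d, hd, hd'⟩ := h.dg lk.symm c0
  have hyX := X.mul_mem (X.mul_mem hg hd) (X.inv_mem hg)
  have hy : ∀ i j, ε j ((g * d * g⁻¹) (b i)) = ε j (b i) + ((_ - 1) * ε k (g.symm (b i))) *
      ε j (g (b k)) + ((_ - 1) * ε l (g.symm (b i))) * ε j (g (b l)) := fun i j => by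
    simp only [LinearEquiv.mul_apply, hd', map_add, map_smul, LinearEquiv.coe_inv,
      LinearEquiv.apply_symm_apply, smul_eq_mul]
    rfl
  have hm' : IsMono b (g * d * g⁻¹) := by
    by_contra hm'
    refine no_zero h h5 hR hyX hm' a s ?_
    have := hv k s; have := hv l s; have := hu a k; have := hu a l
    rw [hy, h.ne sa]; field_simp; ring
  obtain ⟨p, x, hp⟩ := hm' k
  obtain ⟨p', x', hp'⟩ := hm' t
  obtain ⟨j, jk, jt, jp, jp', -⟩ := exists_ne_four h5 k t p p'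
  have e1 := hy k j
  have e2 := hy t j
  rw [hp, map_smul, h.ne jp, h.ne jk, smul_zero] at e1
  rw [hp', map_smul, h.ne jp', h.ne jt, smul_zero] at e2
  refine ht (mul_right_cancel₀ (mul_ne_zero (hu j k) (sub_ne_zero.2 c1)) ?_)
  linear_combination ε l (g.symm (b k)) * e2 - ε l (g.symm (b t)) * e1

end Mono5

theorem sl5_mono [Fintype F] (h5 : 5 ≤ Fintype.card F) {D : Fin 5 → Submodule F (Fin 5 → F)}
    (hD : IsMDecomposition 1 D) :
    IsMaximalIn (specialLinear (Fin 5) F) (decompositionStabilizer D ⊓ specialLinear (Fin 5) F) := by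
  classical
  rw [specialLinear_eq, decompositionStabilizer_eq, ← Subgroup.comap_inf]
  refine isMaximalIn_comap _ ?_
  have hF : Five F := fun a b c d => by
    obtain ⟨k, -, hk⟩ := Finset.exists_mem_notMem_of_card_lt_card (s := {a, b, c, d})
      (t := Finset.univ) (by
        have := Finset.card_le_four (a := a) (b := b) (c := c) (d := d)
        rw [Finset.card_univ]; omega)
    exact ⟨k, by simpa [not_or] using hk⟩
  have h1 := hD.indep
  have h2 := hD.iSup_eq_top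
  have h3 := hD.finrank_eq
  refine isMaximalIn_of inf_le_right (not_SLV_le_decompV (by omega) one_pos h1 h2 h3)
    fun X hHX hX g hg hgH => ?_
  obtain ⟨b, e, h, hD, he⟩ := exists_basis_of_decomp h1 h2 h3
  have he' : ∀ j x, e j x = b.coord (j, 0) x • b (j, 0) := fun j x => by
    have : e j = (b.coord (j, 0)).smulRight (b (j, 0)) := b.ext fun ⟨i, a⟩ => by
      obtain rfl : a = 0 := Subsingleton.elim _ _
      by_cases hi : i = j
      · simp [he, hi]
      · simp [he, hi, Ne.symm hi]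
    rw [this]; rfl
  have hmono : ∀ k : (Fin 5 → F) ≃ₗ[F] (Fin 5 → F), IsMono (fun j => b (j, 0)) k →
      k ∈ decompV D := fun k hk => by
    by_contra hk'
    obtain ⟨i, u, hu, hu'⟩ := exists_of_notMem_decompV h hD one_pos h3 hk'
    obtain ⟨j, c, hc⟩ := hk i
    exact hu' j (by rw [← hu, he' i, map_smul, hc]; simp [he])
  have hO : Ov4 (fun j => b (j, 0)) (fun j => b.coord (j, 0)) X :=
    ⟨⟨fun i => by simp, fun hij => by simp [hij], fun x => by simpa [he'] using h.sum x⟩, hF,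
      by simp, fun k hk hk' => hHX ⟨hmono k hk', hk⟩, hX⟩
  exact hO.SLV_le (Mono5.root hO (by simp) hg fun hm => hgH ⟨hmono g hm, hX hg⟩)

end CfsgLib.Wl5
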